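import Cfsg.Agent.ExtraThree.Local
import Cfsg.Agent.S4614

/-!
# An integral basic set of the principal block with elementary defect group of order nine
-/

set_option autoImplicit false
set_option linter.unusedSectionVars false
set_option linter.style.haveILetI false

namespace CfsgLib.ExtraThree

open Cfsg Finset CfsgLib.Block CfsgLib.Block.Chr CfsgLib.Char CfsgLib.BlockB CfsgLib.GapOne
open scoped ComplexConjugate
open scoped Classical

universe w

variable {Q : Type w} [Group Q] [Fintype Q] {M : Ideal AlgInt} [M.IsPrime]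

/-- An integral basic set of signed characters. -/
structure Basis (M : Ideal AlgInt) (Q : Type w) [Group Q] (n : ℕ) where
  idx : Fin n → ↥(principalBlock M Q)
  sgn : Fin n → ℤ
  D : ↥(principalBlock M Q) → Fin n → ℤ
  cong : ∀ j, (3 : ℤ) ∣ sgn j * (charDegree ((idx j).1 : Q → ℂ) : ℤ) - 1
  expand : ∀ η y, ¬ 3 ∣ orderOf y →
    (η.1 : Q → ℂ) y = ∑ j, (D η j : ℂ) * ((sgn j : ℂ) * ((idx j).1 : Q → ℂ) y)
  rank : blockRank 3 (principalBlock M Q) = n

namespace Basis

variable {n : ℕ} (S : Basis M Q n)

/-- The signed basic characters. -/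
def φ (j : Fin n) (y : Q) : ℂ := (S.sgn j : ℂ) * ((S.idx j).1 : Q → ℂ) y

/-- The Cartan matrix of the basic set. -/
noncomputable def cartan [Fintype ↥(principalBlock M Q)] (i j : Fin n) : ℤ :=
  ∑ η, S.D η i * S.D η j

include S in
theorem sgn_ne_zero (j : Fin n) : S.sgn j ≠ 0 := fun h => by
  have := S.cong j
  rw [h, zero_mul] at this
  omega

include S in
theorem indep (g : Fin n → ℂ) (hg : ∀ y, ¬ 3 ∣ orderOf y → ∑ j, g j * S.φ j y = 0) : g = 0 := by
  set b : Fin n → Q → ℂ := fun j => regPart 3 ((S.idx j).1 : Q → ℂ) with hb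
  have hli : LinearIndependent ℂ b := by
    rw [linearIndependent_iff_card_le_finrank_span, Fintype.card_fin]
    refine le_of_eq_of_le S.rank.symm (Submodule.finrank_mono ?_)
    rw [Submodule.span_le]
    rintro _ ⟨η, hη, rfl⟩
    show pRegularPart 3 (η : Q → ℂ) ∈ Submodule.span ℂ (Set.range b)
    have e : pRegularPart 3 (η : Q → ℂ) = ∑ j, ((S.D ⟨η, hη⟩ j : ℂ) * (S.sgn j : ℂ)) • b j := by
      funext y
      rw [Finset.sum_apply, BlockB.pRegularPart_eq]
      by_cases hy : 3 ∣ orderOf y
      · rw [regPart_of_dvd hy]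
        exact (sum_eq_zero fun j _ => by simp [hb, regPart_of_dvd hy]).symm
      · rw [regPart_of_not_dvd hy, S.expand ⟨η, hη⟩ y hy]
        exact sum_congr rfl fun j _ => by
          simp only [hb, Pi.smul_apply, regPart_of_not_dvd hy, smul_eq_mul, mul_assoc]
    rw [e]
    exact Submodule.sum_mem _ fun j _ => Submodule.smul_mem _ _ (Submodule.subset_span ⟨j, rfl⟩)
  have h0 : ∑ j, (g j * (S.sgn j : ℂ)) • b j = 0 := by
    funext y
    rw [Finset.sum_apply]
    by_cases hy : 3 ∣ orderOf y
    · exact sum_eq_zero fun j _ => by simp [hb, regPart_of_dvd hy]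
    · rw [Pi.zero_apply, ← hg y hy]
      exact sum_congr rfl fun j _ => by
        simp only [hb, Pi.smul_apply, regPart_of_not_dvd hy, smul_eq_mul, φ, mul_assoc]
  funext j
  exact (mul_eq_zero.1 (Fintype.linearIndependent_iff.1 hli _ h0 j)).resolve_right
    (Int.cast_ne_zero.2 (S.sgn_ne_zero j))

end Basis

/-- The three possible shapes. -/
def rowsTwo : Fin 6 → Fin 2 → ℤ :=
  ![![1, 0], ![-1, -1], ![0, 1], ![0, 1], ![0, 1], ![0, 1]]

/-- The shape with four basic characters. -/
def rowsFour : Fin 6 → Fin 4 → ℤ :=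
  ![![1, 0, 0, 0], ![0, 1, 0, 0], ![0, 0, 1, 0], ![0, 0, 0, 1], ![1, 1, 1, 1], ![1, 1, 1, 1]]

/-- The shape with five basic characters. -/
def rowsFive : Fin 6 → Fin 5 → ℤ :=
  ![![1, 0, 0, 0, 0], ![-1, -1, -1, -1, 2], ![0, 1, 0, 0, 0], ![0, 0, 1, 0, 0], ![0, 0, 0, 1, 0],
    ![0, 0, 0, 0, 1]]

/-- The Gram matrix of the rows. -/
def gramOf {n : ℕ} (R : Fin 6 → Fin n → ℤ) (i j : Fin n) : ℤ := ∑ x, R x i * R x j

/-- The auxiliary matrix of the first shape. -/
def factorTwo : Factor (gramOf rowsTwo) where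
  M := ![![1, 2], ![1, -1]]
  u := ![1, -1]
  u_sq := by decide
  gram := by decide
  cong := by decide
  inj := fun y h => by
    have h0 := h 0
    have h1 := h 1
    simp [Fin.sum_univ_two] at h0 h1
    funext i
    fin_cases i <;> simp <;> omega

/-- The auxiliary matrix of the second shape. -/
def factorFour : Factor (gramOf rowsFour) where
  M := ![![-2, 1, 1, 1], ![1, -2, 1, 1], ![1, 1, -2, 1], ![1, 1, 1, -2]]
  u := ![1, 1, 1, 1]
  u_sq := by decide
  gram := by decide
  cong := by decide
  inj := fun y h => by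
    have h0 := h 0
    have h1 := h 1
    have h2 := h 2
    have h3 := h 3
    simp [Fin.sum_univ_four] at h0 h1 h2 h3
    funext i
    fin_cases i <;> simp <;> omega

/-- The auxiliary matrix of the third shape. -/
def factorFive : Factor (gramOf rowsFive) where
  M := ![![2, -1, -1, -1, 1], ![-1, 2, -1, -1, 1], ![-1, -1, 2, -1, 1], ![-1, -1, -1, 2, 1],
    ![-1, -1, -1, -1, 1]]
  u := ![-1, -1, -1, -1, 1]
  u_sq := by decide
  gram := by decide +kernel
  cong := by decide
  inj := fun y h => by
    have h0 := h 0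
    have h1 := h 1
    have h2 := h 2
    have h3 := h 3
    have h4 := h 4
    simp [Fin.sum_univ_five] at h0 h1 h2 h3 h4
    funext i
    fin_cases i <;> simp <;> omega

/-- The rank counts the classes. -/
theorem card_principal {c : ℕ} (K : Classes Q c) (hM : IsPModular 3 M)
    (hall : ∀ g : Q, (∃ k : ℕ, orderOf g = 3 ^ k) → g ≠ 1 → ∃ r, IsConj g (K.u r)) :
    Nat.card (principalBlock M Q) = blockRank 3 (principalBlock M Q) + c := by
  haveI : Fact (Nat.Prime 3) := ⟨Nat.prime_three⟩
  have hne : ∀ r, K.u r ≠ 1 := fun r h => by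
    have := K.ord r; rw [h, orderOf_one] at this; norm_num at this
  have hinj : Function.Injective K.u := fun r r' h => by
    by_contra hc; exact K.sep r r' hc (h ▸ IsConj.refl _)
  have hnot : (1 : Q) ∉ univ.image K.u := fun h => by
    obtain ⟨r, -, hr⟩ := mem_image.1 h; exact hne r hr
  rw [card_principal_eq hM (insert 1 (univ.image K.u)) ?_ ?_, sum_insert hnot,
    sum_image hinj.injOn, blockRank_principal_centralizer_one hM,
    sum_congr rfl fun r _ => blockRank_one_of_hnpc hM (K.hnpc r)]
  · simp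
  · intro x hx
    rcases mem_insert.1 hx with rfl | hx
    · exact ⟨0, by simp⟩
    · obtain ⟨r, -, rfl⟩ := mem_image.1 hx
      exact ⟨1, by rw [K.ord r, pow_one]⟩
  · intro g hg
    by_cases h1 : g = 1
    · subst h1
      refine ⟨1, ⟨mem_insert_self _ _, IsConj.refl _⟩, fun x ⟨_, hc⟩ => ?_⟩
      exact isConj_one_right.1 hc
    · obtain ⟨r, hr⟩ := hall g hg h1
      refine ⟨K.u r, ⟨mem_insert_of_mem (mem_image_of_mem _ (mem_univ r)), hr⟩, ?_⟩
      rintro x ⟨hx, hc⟩
      rcases mem_insert.1 hx with rfl | hx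
      · exact absurd (isConj_one_left.1 hc) h1
      · obtain ⟨r', -, rfl⟩ := mem_image.1 hx
        by_contra hne'
        exact K.sep r' r (fun h => hne' (by rw [h])) (hc.symm.trans hr)

/-- A character killed on all listed sections is killed on all singular elements. -/
theorem vanish_of_reps (R : Set Q)
    (hall : ∀ g : Q, (∃ k : ℕ, orderOf g = 3 ^ k) → g ≠ 1 → ∃ x ∈ R, IsConj g x)
    (χ : IrrCharacter Q)
    (h0 : ∀ x ∈ R, ∀ s : Q, Commute x s → ¬ 3 ∣ orderOf s → (χ : Q → ℂ) (x * s) = 0)
    (g : Q) (hg : 3 ∣ orderOf g) : (χ : Q → ℂ) g = 0 := by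
  obtain ⟨a, b, hab, hcomm, -, -, ha1, hb, hak, -, -⟩ := exists_pPart Nat.prime_three g
  obtain ⟨x, hx, hax⟩ := hall a hak (ha1 hg)
  obtain ⟨t, ht⟩ := isConj_iff.1 hax
  rw [← isClassFunction_irr χ g t, ← hab,
    show t * (a * b) * t⁻¹ = x * (t * b * t⁻¹) by rw [← ht]; group]
  refine h0 x hx _ ?_ ?_
  · rw [← ht]
    exact hcomm.map (MulAut.conj t)
  · rwa [show t * b * t⁻¹ = MulAut.conj t b from rfl, MulEquiv.orderOf_eq]

/-- All members have height zero. -/
theorem all_zero {c : ℕ} (K : Classes Q c) (hM : IsPModular 3 M) (hc : 0 < c)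
    (hall : ∀ g : Q, (∃ k : ℕ, orderOf g = 3 ^ k) → g ≠ 1 → ∃ r, IsConj g (K.u r))
    [Fintype ↥(principalBlock M Q)] (x : ↥(principalBlock M Q)) : x ∈ (K.vcols hM).zero := by
  rw [VCols.mem_zero]
  intro hd
  have h3 : 3 ∣ Nat.card Q := K.ord ⟨0, hc⟩ ▸ orderOf_dvd_natCard _
  obtain ⟨g, hg, hne⟩ := exists_singular_ne_zero hM h3 x.2
  refine hne (vanish_of_reps (Set.range K.u) (fun g hg h1 => ?_) x.1 ?_ g hg)
  · obtain ⟨r, hr⟩ := hall g hg h1
    exact ⟨K.u r, ⟨r, rfl⟩, hr⟩
  · rintro _ ⟨r, rfl⟩ s hs hreg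
    rw [section_const K r hM x.2 hs hreg]
    have := (K.vcols hM).v_zero r hd
    exact_mod_cast this

/-- Nine characters. -/
def gramNine (i j : Fin 8) : ℤ := if i = j then 2 else 1

/-- The basic set. -/
theorem exists_basis {c : ℕ} (K : Classes Q c) (hM : IsPModular 3 M)
    (hc : c = 4 ∨ c = 2 ∨ c = 1) (hQ : (Nat.card Q).factorization 3 = 2)
    (hall : ∀ g : Q, (∃ k : ℕ, orderOf g = 3 ^ k) → g ≠ 1 → ∃ r, IsConj g (K.u r))
    [Fintype ↥(principalBlock M Q)] :
    (∃ (n : ℕ) (S : Basis M Q n), n + c = 6 ∧ Nonempty (Factor S.cartan)) ∨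
      (c = 1 ∧ ∃ S : Basis M Q 8, S.cartan = gramNine) := by
  haveI : Fact (Nat.Prime 3) := ⟨Nat.prime_three⟩
  set V := K.vcols hM
  have hc0 : 0 < c := by omega
  have hz : ∀ x, x ∈ V.zero := all_zero K hM hc0 hall
  have hcard := card_principal K hM hall
  rw [Nat.card_eq_fintype_card] at hcard
  obtain ⟨hA, hB⟩ := V.card_three_six_nine hz hc0
  -- the relation of each column on the regular elements
  have hrel : ∀ r y, ¬ 3 ∣ orderOf y →
      ∑ χ : ↥(principalBlock M Q), (χ.1 : Q → ℂ) y * (val K r χ.1 : ℂ) = 0 := fun r y hy =>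
    sum_val_eq_zero K r hM (isPPart_one hy) fun h => not_isConj_one (K.ord r) h.symm
  have h39 : Fintype.card ↥(principalBlock M Q) ≠ 3 := by
    intro h3
    obtain ⟨D⟩ : Nonempty (Sylow 3 Q) := inferInstance
    have := Cfsg.Agent.S4614.result 3 M hM (by rw [Nat.card_eq_fintype_card]; exact h3) D
    rw [D.card_eq_multiplicity, hQ] at this
    norm_num at this
  rcases eq_or_ne (Fintype.card ↥(principalBlock M Q)) 6 with h6 | h6
  · left
    obtain ⟨n, hn⟩ : ∃ n, n + c = 6 := ⟨6 - c, by omega⟩
    obtain ⟨e, -, he⟩ := V.shape hn (by omega) hc0 hz h6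
    set f : Fin 6 → Q → ℂ := fun i y =>
      (res (V.d (e i)) : ℂ) * ((e i).1 : Q → ℂ) y with hf
    have hres : ∀ i, (res (V.d (e i)) : ℂ) * (res (V.d (e i)) : ℂ) = 1 := fun i => by
      exact_mod_cast res_sq _
    have hrow : ∀ (r : Fin c) y, ¬ 3 ∣ orderOf y →
        ∑ i : Fin 6, (if (i : ℕ) = n + r then -2 else 1 : ℂ) * f i y = 0 := by
      intro r y hy
      rw [← hrel r y hy, ← e.sum_comp]
      refine sum_congr rfl fun i _ => ?_
      have := congrArg (Int.cast : ℤ → ℂ) (he r i)
      simp only [apply_ite (Int.cast : ℤ → ℂ), Int.cast_mul, Int.cast_neg, Int.cast_ofNat,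
        Int.cast_one] at this
      rw [← this, hf]
      calc (res (V.d (e i)) : ℂ) * (V.v r (e i) : ℂ) *
            ((res (V.d (e i)) : ℂ) * ((e i).1 : Q → ℂ) y)
          = ((res (V.d (e i)) : ℂ) * (res (V.d (e i)) : ℂ)) *
            (((e i).1 : Q → ℂ) y * (V.v r (e i) : ℂ)) := by ring
        _ = _ := by rw [hres, one_mul]; rfl
    -- from rows to a basic set
    have make : ∀ (R : Fin 6 → Fin n → ℤ) (idx : Fin n → Fin 6),
        (∀ i y, ¬ 3 ∣ orderOf y → f i y = ∑ j, (R i j : ℂ) * f (idx j) y) →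
        ∃ S : Basis M Q n, S.cartan = gramOf R := by
      intro R idx hexp
      refine ⟨{ idx := fun j => e (idx j)
                sgn := fun j => res (V.d (e (idx j)))
                D := fun η j => res (V.d η) * R (e.symm η) j
                cong := fun j => res_mul _ (V.mem_zero.1 (hz _))
                expand := ?_
                rank := by omega }, ?_⟩
      · intro η y hy
        have h := hexp (e.symm η) y hy
        simp only [hf, Equiv.apply_symm_apply] at h
        calc (η.1 : Q → ℂ) y
            = (res (V.d η) : ℂ) * ((res (V.d η) : ℂ) * (η.1 : Q → ℂ) y) := by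
              have := hres (e.symm η); rw [Equiv.apply_symm_apply] at this
              rw [← mul_assoc, this, one_mul]
          _ = _ := by
              rw [h, mul_sum]
              exact sum_congr rfl fun j _ => by push_cast; ring
      · funext i j
        show ∑ η, _ = ∑ x, _
        refine (Equiv.sum_comp e _).symm.trans (sum_congr rfl fun x _ => ?_)
        simp only [Equiv.symm_apply_apply]
        rw [show res (V.d (e x)) * R x i * (res (V.d (e x)) * R x j) =
          res (V.d (e x)) * res (V.d (e x)) * (R x i * R x j) by ring, res_sq, one_mul]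
    refine ⟨n, ?_⟩
    rcases hc with rfl | rfl | rfl
    · obtain rfl : n = 2 := by omega
      obtain ⟨S, hS⟩ := make rowsTwo ![0, 2] fun i y hy => by
        have h0 := hrow 0 y hy
        have h1 := hrow 1 y hy
        have h2 := hrow 2 y hy
        have h3 := hrow 3 y hy
        simp [Fin.sum_univ_six] at h0 h1 h2 h3
        fin_cases i <;> simp [rowsTwo, Fin.sum_univ_two]
        · linear_combination (1 / 3 : ℂ) * (h1 + h2 + h3)
        · linear_combination (1 / 3 : ℂ) * (h0 - h1)
        · linear_combination (1 / 3 : ℂ) * (h0 - h2)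
        · linear_combination (1 / 3 : ℂ) * (h0 - h3)
      exact ⟨S, rfl, hS ▸ ⟨factorTwo⟩⟩
    · obtain rfl : n = 4 := by omega
      obtain ⟨S, hS⟩ := make rowsFour ![0, 1, 2, 3] fun i y hy => by
        have h0 := hrow 0 y hy
        have h1 := hrow 1 y hy
        simp [Fin.sum_univ_six] at h0 h1
        fin_cases i <;> simp [rowsFour, Fin.sum_univ_four]
        · linear_combination (-2 / 3 : ℂ) * h0 + (-1 / 3 : ℂ) * h1
        · linear_combination (-1 / 3 : ℂ) * h0 + (-2 / 3 : ℂ) * h1
      exact ⟨S, rfl, hS ▸ ⟨factorFour⟩⟩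
    · obtain rfl : n = 5 := by omega
      obtain ⟨S, hS⟩ := make rowsFive ![0, 2, 3, 4, 5] fun i y hy => by
        have h0 := hrow 0 y hy
        simp [Fin.sum_univ_six] at h0
        fin_cases i <;> simp [rowsFive, Fin.sum_univ_five]
        linear_combination h0
      exact ⟨S, rfl, hS ▸ ⟨factorFive⟩⟩
  · right
    have hc1 : c = 1 := by omega
    subst hc1
    have h9 : Fintype.card ↥(principalBlock M Q) = 9 := by omega
    refine ⟨rfl, ?_⟩
    have hs : V.spots 0 = ∅ := by
      have h := V.zero_card 0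
      rw [show V.zero = univ from eq_univ_of_forall hz, card_univ, h9] at h
      rw [← card_eq_zero]; omega
    have hv : ∀ x, (res (V.d x) : ℂ) * (V.v 0 x : ℂ) = 1 := fun x => by
      have h := V.v_val 0 (hz x)
      rw [hs, if_neg (notMem_empty x)] at h
      exact_mod_cast (by simpa using h : res (V.d x) * V.v 0 x = 1)
    let e := (Fintype.equivFinOfCardEq h9).symm
    set f : Fin 9 → Q → ℂ := fun i y => (res (V.d (e i)) : ℂ) * ((e i).1 : Q → ℂ) y with hf
    have hres : ∀ x, (res (V.d x) : ℂ) * (res (V.d x) : ℂ) = 1 := fun x => by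
      exact_mod_cast res_sq _
    refine ⟨{ idx := fun j => e j.castSucc
              sgn := fun j => res (V.d (e j.castSucc))
              D := fun η j => res (V.d η) *
                if e.symm η = Fin.last 8 then -1 else if e.symm η = j.castSucc then 1 else 0
              cong := fun j => res_mul _ (V.mem_zero.1 (hz _))
              expand := ?_
              rank := by omega }, ?_⟩
    · intro η y hy
      have hsum : ∑ i, f i y = 0 := by
        rw [← hrel 0 y hy, ← e.sum_comp]
        refine sum_congr rfl fun i _ => ?_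
        rw [hf]
        calc (res (V.d (e i)) : ℂ) * ((e i).1 : Q → ℂ) y
            = (res (V.d (e i)) : ℂ) * ((res (V.d (e i)) : ℂ) * (V.v 0 (e i) : ℂ)) *
              ((e i).1 : Q → ℂ) y := by rw [hv, mul_one]
          _ = ((e i).1 : Q → ℂ) y * (V.v 0 (e i) : ℂ) := by rw [← mul_assoc, hres, one_mul]; ring
          _ = _ := rfl
      have hexp : f (e.symm η) y = ∑ j : Fin 8,
          ((if e.symm η = Fin.last 8 then -1 else if e.symm η = j.castSucc then 1 else 0 : ℤ) : ℂ) *
            f j.castSucc y := by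
        by_cases hl : e.symm η = Fin.last 8
        · simp only [hl, if_true, Int.cast_neg, Int.cast_one, neg_one_mul, sum_neg_distrib]
          rw [Fin.sum_univ_castSucc] at hsum
          linear_combination hsum
        · simp only [if_neg hl]
          obtain ⟨k, hk⟩ := Fin.exists_castSucc_eq.2 hl
          rw [sum_eq_single k]
          · rw [← hk, if_pos rfl, Int.cast_one, one_mul]
          · intro j _ hj
            rw [← hk, if_neg (fun h => hj (Fin.castSucc_injective _ h).symm), Int.cast_zero, zero_mul]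
          · simp
      have hη : (η.1 : Q → ℂ) y = (res (V.d η) : ℂ) * f (e.symm η) y := by
        simp only [hf, Equiv.apply_symm_apply]
        rw [← mul_assoc, hres, one_mul]
      rw [hη, hexp, mul_sum]
      exact sum_congr rfl fun j _ => by simp only [hf]; push_cast; ring
    · funext i j
      show ∑ η, _ = gramNine i j
      refine (Equiv.sum_comp e _).symm.trans ?_
      simp only [Equiv.symm_apply_apply]
      rw [sum_congr rfl fun x _ => show res (V.d (e x)) * (if x = Fin.last 8 then -1 else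
          if x = i.castSucc then 1 else 0) * (res (V.d (e x)) * (if x = Fin.last 8 then -1 else
          if x = j.castSucc then 1 else 0)) = res (V.d (e x)) * res (V.d (e x)) *
          ((if x = Fin.last 8 then -1 else if x = i.castSucc then (1 : ℤ) else 0) *
            (if x = Fin.last 8 then -1 else if x = j.castSucc then 1 else 0)) by ring]
      simp only [res_sq, one_mul]
      revert i j
      decide +kernel

end CfsgLib.ExtraThree
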