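import Cfsg.Agent.ExtraThree.Basis
import Cfsg.Agent.Blocks.LocalRing

/-!
# Integral coefficients above a central subgroup of order three
-/

set_option autoImplicit false
set_option linter.unusedSectionVars false
set_option linter.style.haveILetI false

namespace CfsgLib.ExtraThree

open Cfsg Finset CfsgLib.Block CfsgLib.Block.Chr CfsgLib.Char CfsgLib.BlockB
open scoped ComplexConjugate
open scoped Classical

universe w

variable {H : Type w} [Group H] [Fintype H] {M : Ideal AlgInt} [M.IsPrime]

/-- A multiple of nine by a locally integral number. -/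
theorem exists_int_of_nine (hM : IsPModular 3 M) {x : ℂ} (hx : MemLocalRing M x) {m : ℤ}
    (h : 9 * x = (m : ℂ)) : ∃ a : ℤ, x = (a : ℂ) := by
  haveI : Fact (Nat.Prime 3) := ⟨Nat.prime_three⟩
  have h3 : MemLocalIdeal M (3 : ℂ) := by
    have := (memLocalIdeal_natCast_iff hM (n := 3)).2 dvd_rfl
    exact_mod_cast this
  have step : ∀ (y : ℂ), MemLocalRing M y → ∀ k : ℤ, 3 * y = (k : ℂ) → ∃ a : ℤ, y = (a : ℂ) := by
    intro y hy k hk
    have hd : (3 : ℤ) ∣ k := by
      have := (memLocalIdeal_intCast_iff hM (n := k)).1 (hk ▸ memLocalIdeal_mul_right h3 hy)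
      exact_mod_cast this
    obtain ⟨a, rfl⟩ := hd
    refine ⟨a, mul_left_cancel₀ (three_ne_zero : (3 : ℂ) ≠ 0) ?_⟩
    rw [hk]; push_cast; rfl
  have h3r : MemLocalRing M (3 * x) := by
    have : MemLocalRing M ((3 : ℕ) : ℂ) := natCast_mem_localRing 3
    exact memLocalRing_mul (by exact_mod_cast this) hx
  obtain ⟨a, ha⟩ := step (3 * x) h3r m (by rw [← h]; ring)
  exact step x hx a ha

variable {Z : Subgroup H} [Z.Normal] {n : ℕ}

/-- The regular inner products of the basic set. -/
noncomputable def regGram [Fintype (H ⧸ Z)] (S : Basis M (H ⧸ Z) n) (j k : Fin n) : ℂ :=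
  (S.sgn j : ℂ) * (S.sgn k : ℂ) * regMat 3 (principalBlock M (H ⧸ Z)) (S.idx j) (S.idx k)

theorem regGram_symm [Fintype (H ⧸ Z)] (S : Basis M (H ⧸ Z) n) (j k : Fin n) :
    regGram S j k = regGram S k j := by
  haveI : Fact (Nat.Prime 3) := ⟨Nat.prime_three⟩
  rw [regGram, regGram, regMat_symm]; ring

/-- The Gram matrix inverts the Cartan matrix. -/
theorem regGram_mul_cartan [Fintype (H ⧸ Z)] (hM : IsPModular 3 M) (S : Basis M (H ⧸ Z) n)
    [Fintype ↥(principalBlock M (H ⧸ Z))] (j i : Fin n) :
    ∑ k, regGram S j k * (S.cartan k i : ℂ) = if j = i then 1 else 0 := by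
  haveI : Fact (Nat.Prime 3) := ⟨Nat.prime_three⟩
  have hB : IsPBlock M (principalBlock M (H ⧸ Z)) := isPBlock_principalBlock
  have hcoef : ∀ (j : Fin n) (η : ↥(principalBlock M (H ⧸ Z))), (S.sgn j : ℂ) * regMat 3 (principalBlock M (H ⧸ Z)) (S.idx j) η =
      ∑ k, (S.D η k : ℂ) * regGram S j k := by
    intro j η
    have hreg : regPart 3 (η.1 : H ⧸ Z → ℂ) =
        ∑ k, ((S.D η k : ℂ) * (S.sgn k : ℂ)) • regPart 3 ((S.idx k).1 : H ⧸ Z → ℂ) := by
      funext y
      rw [Finset.sum_apply]
      by_cases hy : 3 ∣ orderOf y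
      · rw [regPart_of_dvd hy]
        exact (sum_eq_zero fun k _ => by simp [regPart_of_dvd hy]).symm
      · rw [regPart_of_not_dvd hy, S.expand η y hy]
        exact sum_congr rfl fun k _ => by
          simp only [Pi.smul_apply, regPart_of_not_dvd hy, smul_eq_mul]; ring
    rw [regMat_symm, ← classInner_regPart_regPart, hreg]
    simp only [CfsgLib.Char.classInner_def, Finset.sum_apply, Pi.smul_apply, smul_eq_mul, sum_mul,
      mul_sum]
    rw [sum_comm]
    refine sum_congr rfl fun k _ => ?_
    rw [regGram, regMat_symm, ← classInner_regPart_regPart, CfsgLib.Char.classInner_def]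
    simp only [mul_sum]
    exact sum_congr rfl fun y _ => by ring
  have key : ∀ i, (∑ k, regGram S j k * (S.cartan k i : ℂ)) - (if j = i then 1 else 0) = 0 := by
    refine congrFun (S.indep (fun i => (∑ k, regGram S j k * (S.cartan k i : ℂ)) -
      if j = i then 1 else 0) fun y hy => ?_)
    have h := regPart_expand hM hB (S.idx j) y
    rw [regPart_of_not_dvd hy] at h
    have h' : S.φ j y = ∑ i, (∑ k, regGram S j k * (S.cartan k i : ℂ)) * S.φ i y := by
      calc S.φ j y = ∑ η : ↥(principalBlock M (H ⧸ Z)), ((S.sgn j : ℂ) * regMat 3 (principalBlock M (H ⧸ Z)) (S.idx j) η) * (η.1 : H ⧸ Z → ℂ) y := by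
            rw [Basis.φ, h, mul_sum]; exact sum_congr rfl fun η _ => by ring
        _ = ∑ η : ↥(principalBlock M (H ⧸ Z)), (∑ k, (S.D η k : ℂ) * regGram S j k) * ∑ i, (S.D η i : ℂ) * S.φ i y := by
            refine sum_congr rfl fun η _ => ?_
            rw [hcoef j η, S.expand η y hy]
            rfl
        _ = _ := by
            simp only [Basis.cartan, Int.cast_sum, Int.cast_mul, mul_sum, sum_mul]
            rw [sum_comm]
            refine sum_congr rfl fun i _ => ?_
            rw [sum_comm]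
            exact sum_congr rfl fun k _ => sum_congr rfl fun η _ => by ring
    simp only [sub_mul, sum_sub_distrib, ← h', ite_mul, one_mul, zero_mul, sum_ite_eq, mem_univ,
      if_true, sub_self]
  exact sub_eq_zero.1 (key i)

/-- The inflated basic character. -/
def lift (hM : IsPModular 3 M) (hZ : Z ≤ Subgroup.center H) (hZp : IsPGroup 3 Z) [Fintype (H ⧸ Z)]
    (η : ↥(principalBlock M (H ⧸ Z))) : ↥(principalBlock M H) :=
  ⟨CfsgLib.BlockB.inflIrr η.1,
    (haveI : Fact (Nat.Prime 3) := ⟨Nat.prime_three⟩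
     (inflIrr_mem_principalBlock_iff hM hZp (sup_centralizer_eq_top hZ) η.1).2 η.2)⟩

/-- The coefficients are integers, with three times the Cartan matrix as Gram matrix. -/
theorem exists_coeff (hM : IsPModular 3 M) (hZ : Z ≤ Subgroup.center H) (hZ3 : Nat.card Z = 3)
    (hH : (Nat.card H).factorization 3 = 3) [Fintype (H ⧸ Z)] (S : Basis M (H ⧸ Z) n)
    [Fintype ↥(principalBlock M (H ⧸ Z))] [Fintype ↥(principalBlock M H)] :
    ∃ e : ↥(principalBlock M H) → Fin n → ℤ,
      (∀ θ s, ¬ 3 ∣ orderOf s → (θ.1 : H → ℂ) s = ∑ j, (e θ j : ℂ) * S.φ j (s : H ⧸ Z)) ∧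
      ∀ i j, ∑ θ, e θ i * e θ j = 3 * S.cartan i j := by
  haveI : Fact (Nat.Prime 3) := ⟨Nat.prime_three⟩
  have hZp : IsPGroup 3 Z := IsPGroup.of_card (n := 1) (by rw [hZ3, pow_one])
  have hB : IsPBlock M (principalBlock M H) := isPBlock_principalBlock
  letI : Fintype (Quot.below (N := Z) (principalBlock M H)) := Fintype.ofFinite _
  have hbelow : ∀ η : Quot.below (N := Z) (principalBlock M H), η.1 ∈ principalBlock M (H ⧸ Z) := fun η =>
    (inflIrr_mem_principalBlock_iff hM hZp (sup_centralizer_eq_top hZ) η.1).1 (by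
      have h := η.2
      exact h)
  -- the scaled inner product with a basic character
  let r : ↥(principalBlock M H) → Fin n → ℂ := fun θ k =>
    (S.sgn k : ℂ) * regMat 3 (principalBlock M H) θ (lift hM hZ hZp (S.idx k))
  let E : ↥(principalBlock M H) → Fin n → ℂ := fun θ i => 3 * ∑ k, (S.cartan k i : ℂ) * r θ k
  have hinfl : ∀ j k, regMat 3 (principalBlock M H) (lift hM hZ hZp (S.idx j)) (lift hM hZ hZp (S.idx k)) =
      (3 : ℂ)⁻¹ * regMat 3 (principalBlock M (H ⧸ Z)) (S.idx j) (S.idx k) := by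
    intro j k
    have h := classInner_regPart_inflIrr (p := 3) hZ hZp (S.idx j).1 (S.idx k).1
    rw [hZ3] at h
    rw [← classInner_regPart_regPart, ← classInner_regPart_regPart, ← h]
    push_cast
    rw [← mul_assoc, inv_mul_cancel₀ (three_ne_zero), one_mul]
    rfl
  have hfun : ∀ θ : ↥(principalBlock M H), (∀ i, MemLocalRing M (E θ i)) ∧
      ∀ s, ¬ 3 ∣ orderOf s → (θ.1 : H → ℂ) s = ∑ j, E θ j * S.φ j (s : H ⧸ Z) := by
    intro θ
    obtain ⟨cf, hcf, hexp⟩ := exists_regPart_coeff hM hZ hZp hB θ.2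
    set f : Fin n → ℂ := fun j => ∑ η, cf η * (S.D ⟨η.1, hbelow η⟩ j : ℂ) with hf
    have hexp' : ∀ s, ¬ 3 ∣ orderOf s → (θ.1 : H → ℂ) s = ∑ j, f j * S.φ j (s : H ⧸ Z) := by
      intro s hs
      have h := congrFun hexp s
      rw [regPart_of_not_dvd hs, Finset.sum_apply] at h
      rw [h]
      simp only [hf, sum_mul]
      rw [sum_comm]
      refine sum_congr rfl fun η _ => ?_
      rw [Pi.smul_apply, regPart_of_not_dvd hs, smul_eq_mul]
      calc cf η * (Quot.inflIrr η.1 : H → ℂ) s
          = cf η * ∑ j, (S.D ⟨η.1, hbelow η⟩ j : ℂ) * S.φ j (s : H ⧸ Z) :=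
            congrArg (cf η * ·) (S.expand ⟨η.1, hbelow η⟩ _ (regular_mk hs))
        _ = _ := by rw [mul_sum]; exact sum_congr rfl fun j _ => by ring
    have hr : ∀ k, r θ k = ∑ j, f j * ((3 : ℂ)⁻¹ * regGram S j k) := by
      intro k
      have hregθ : regPart 3 (θ.1 : H → ℂ) =
          ∑ j, (f j * (S.sgn j : ℂ)) • regPart 3 ((lift hM hZ hZp (S.idx j)).1 : H → ℂ) := by
        funext s
        rw [Finset.sum_apply]
        by_cases hs : 3 ∣ orderOf s
        · rw [regPart_of_dvd hs]
          exact (sum_eq_zero fun k _ => by simp [regPart_of_dvd hs]).symm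
        · rw [regPart_of_not_dvd hs, hexp' s hs]
          exact sum_congr rfl fun j _ => by
            simp only [Pi.smul_apply, regPart_of_not_dvd hs, smul_eq_mul, Basis.φ]
            show _ = f j * _ * ((S.idx j).1 : H ⧸ Z → ℂ) (s : H ⧸ Z)
            ring
      simp only [r]
      rw [← classInner_regPart_regPart, hregθ]
      simp only [CfsgLib.Char.classInner_def, Finset.sum_apply, Pi.smul_apply, smul_eq_mul, sum_mul,
        mul_sum]
      rw [sum_comm]
      refine sum_congr rfl fun j _ => ?_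
      rw [regGram, show (3 : ℂ)⁻¹ * ((S.sgn j : ℂ) * (S.sgn k : ℂ) *
          regMat 3 (principalBlock M (H ⧸ Z)) (S.idx j) (S.idx k)) =
        (S.sgn j : ℂ) * (S.sgn k : ℂ) * ((3 : ℂ)⁻¹ *
          regMat 3 (principalBlock M (H ⧸ Z)) (S.idx j) (S.idx k)) by ring, ← hinfl,
        ← classInner_regPart_regPart, CfsgLib.Char.classInner_def]
      simp only [mul_sum]
      exact sum_congr rfl fun y _ => by ring
    have hE : ∀ i, E θ i = f i := by
      intro i
      calc E θ i = ∑ j, f j * ∑ k, regGram S j k * (S.cartan k i : ℂ) := by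
            simp only [E, hr, mul_sum]
            rw [sum_comm]
            exact sum_congr rfl fun j _ => sum_congr rfl fun k _ => by ring
        _ = f i := by
            simp only [regGram_mul_cartan hM S, mul_ite, mul_one, mul_zero, sum_ite_eq', mem_univ,
              if_true]
    refine ⟨fun i => ?_, fun s hs => by simp only [hE]; exact hexp' s hs⟩
    rw [hE, hf]
    exact (localRing M).sum_mem fun η _ => (localRing M).mul_mem (hcf η) (intCast_mem (localRing M) _)
  have hint : ∀ θ i, ∃ a : ℤ, E θ i = (a : ℂ) := by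
    intro θ i
    refine exists_int_of_nine hM ((hfun θ).1 i) (m := ∑ k, S.cartan k i * (S.sgn k *
      regInt 3 θ.1 (lift hM hZ hZp (S.idx k)).1)) ?_
    simp only [E, r, regMat_eq, hH, mul_sum, Int.cast_sum, Int.cast_mul]
    exact sum_congr rfl fun k _ => by push_cast; ring
  choose e he using hint
  refine ⟨e, fun θ s hs => ?_, fun i j => ?_⟩
  · rw [(hfun θ).2 s hs]
    exact sum_congr rfl fun j _ => by rw [he]
  · have hidem : ∀ k m, ∑ θ : ↥(principalBlock M H), r θ k * r θ m =
        (3 : ℂ)⁻¹ * regGram S k m := by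
      intro k m
      have h := congrFun (congrFun (regMat_mul_self hM hB) (lift hM hZ hZp (S.idx k)))
        (lift hM hZ hZp (S.idx m))
      rw [Matrix.mul_apply] at h
      calc ∑ θ : ↥(principalBlock M H), r θ k * r θ m = (S.sgn k : ℂ) * (S.sgn m : ℂ) *
            ∑ θ : ↥(principalBlock M H), regMat 3 (principalBlock M H) (lift hM hZ hZp (S.idx k)) θ *
              regMat 3 (principalBlock M H) θ (lift hM hZ hZp (S.idx m)) := by
            rw [mul_sum]
            exact sum_congr rfl fun θ _ => by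
              simp only [r]; rw [regMat_symm θ (lift hM hZ hZp (S.idx k))]; ring
        _ = _ := by rw [h, hinfl, regGram]; ring
    apply Int.cast_injective (α := ℂ)
    push_cast
    simp only [← he, E]
    calc ∑ θ : ↥(principalBlock M H), (3 * ∑ k, (S.cartan k i : ℂ) * r θ k) * (3 * ∑ m, (S.cartan m j : ℂ) * r θ m)
        = 9 * ∑ k, ∑ m, (S.cartan k i : ℂ) * (S.cartan m j : ℂ) * ∑ θ : ↥(principalBlock M H), r θ k * r θ m := by
          have e1 : ∀ θ : ↥(principalBlock M H), (3 * ∑ k, (S.cartan k i : ℂ) * r θ k) *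
              (3 * ∑ m, (S.cartan m j : ℂ) * r θ m) =
              ∑ k, ∑ m, 9 * ((S.cartan k i : ℂ) * (S.cartan m j : ℂ) * (r θ k * r θ m)) := fun θ => by
            rw [mul_mul_mul_comm, sum_mul_sum, mul_sum]
            refine sum_congr rfl fun k _ => ?_
            rw [mul_sum]
            exact sum_congr rfl fun m _ => by ring
          rw [sum_congr rfl fun θ _ => e1 θ, sum_comm, mul_sum]
          refine sum_congr rfl fun k _ => ?_
          rw [sum_comm, mul_sum]
          refine sum_congr rfl fun m _ => ?_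
          rw [← mul_sum, ← mul_sum]
      _ = 3 * ∑ k, (S.cartan k i : ℂ) * ∑ m, regGram S k m * (S.cartan m j : ℂ) := by
          simp only [hidem, mul_sum]
          exact sum_congr rfl fun k _ => sum_congr rfl fun m _ => by ring
      _ = 3 * (S.cartan i j : ℂ) := by
          simp only [regGram_mul_cartan hM S, mul_ite, mul_one, mul_zero, sum_ite_eq', mem_univ,
            if_true]
          rw [show S.cartan j i = S.cartan i j from sum_congr rfl fun η _ => mul_comm _ _]

end CfsgLib.ExtraThree
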