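import Cfsg.Agent.ExtraThree.Quot
import Cfsg.Agent.BlocksB.MajorSubsection
import Cfsg.Agent.BlocksB.Star.SectionIntegral
import Cfsg.Agent.S0894

/-!
# The columns of the principal block
-/

set_option autoImplicit false
set_option linter.unusedSectionVars false
set_option linter.style.haveILetI false

namespace CfsgLib.ExtraThree

open Cfsg Finset CfsgLib.Block CfsgLib.Block.Chr CfsgLib.Char CfsgLib.BlockB CfsgLib.GapOne
open scoped ComplexConjugate
open scoped Classical

universe w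

/-- A primitive cube root of unity. -/
noncomputable def om : ℂ := ⟨-1 / 2, Real.sqrt 3 / 2⟩

theorem om_sq : om * om = -1 - om := by
  have h : Real.sqrt 3 * Real.sqrt 3 = 3 := Real.mul_self_sqrt (by norm_num)
  apply Complex.ext
  · simp [om]; linear_combination (-1 / 4 : ℝ) * h
  · simp [om]; ring

theorem conj_om : conj om = -1 - om := by
  apply Complex.ext
  · simp [om]; norm_num
  · simp [om]

theorem int_om {a b : ℤ} (h : (a : ℂ) + (b : ℂ) * om = 0) : a = 0 ∧ b = 0 := by
  have hi := congrArg Complex.im h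
  simp [om] at hi
  subst hi
  simpa using h

theorem int_om_eq {a b a' b' : ℤ} (h : (a : ℂ) + (b : ℂ) * om = (a' : ℂ) + (b' : ℂ) * om) :
    a = a' ∧ b = b' := by
  have := int_om (a := a - a') (b := b - b') (by push_cast; linear_combination h)
  omega

theorem cube_root {x : ℂ} (h : x ^ 3 = 1) :
    ∃ A B : ℤ, x = (A : ℂ) + (B : ℂ) * om := by
  have : (x - 1) * (x - om) * (x - (-1 - om)) = 0 := by
    linear_combination h - (x - 1) * om_sq
  rcases mul_eq_zero.1 this with h | h
  · rcases mul_eq_zero.1 h with h | h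
    · exact ⟨1, 0, by push_cast; linear_combination h⟩
    · exact ⟨0, 1, by push_cast; linear_combination h⟩
  · exact ⟨-1, -1, by push_cast; linear_combination h⟩

variable {G : Type w} [Group G] [Fintype G] {P : Sylow 3 G} {z : G} {M : Ideal AlgInt} [M.IsPrime]

namespace Setting

variable (S : Setting P z)

include S in
theorem exists_nc : ∃ u, u ∈ NC P z := by
  by_contra h
  push Not at h
  have hle : (P : Subgroup G) ≤ Subgroup.zpowers z := fun x hx => by
    by_contra hxz
    exact h x ⟨hx, fun i hi => hxz (hi ▸ pow_mem (Subgroup.mem_zpowers z) i)⟩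
  have := Subgroup.card_dvd_of_le hle
  rw [S.card, S.card_zpowers_z] at this
  norm_num at this

include S in
/-- The restriction to the Sylow subgroup: the value at the centre. -/
theorem value_z (hE : Cfsg.IsExtraspecial 3 ↥(P : Subgroup G)) (χ : IrrCharacter G) :
    ∃ m A B N : ℤ, (χ : G → ℂ) z = ((m + 3 * A : ℤ) : ℂ) + ((3 * B : ℤ) : ℂ) * om ∧
      (charDegree (χ : G → ℂ) : ℤ) = m + 3 * N := by
  haveI : Fact (Nat.Prime 3) := ⟨Nat.prime_three⟩
  set K := (P : Subgroup G)
  letI := irrFintype (G := ↥K)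
  set zP : K := ⟨z, S.z_mem⟩
  have hcl : IsClassFunction K (fun c : K => (χ : G → ℂ) c) :=
    fun c v => by simpa using isClassFunction_irr χ (c : G) (v : G)
  have hcase : ∀ ψ : IrrCharacter K, ∃ t D A B : ℤ, (ψ : K → ℂ) 1 = ((t + 3 * D : ℤ) : ℂ) ∧
      (ψ : K → ℂ) zP = ((t + 3 * A : ℤ) : ℂ) + ((3 * B : ℤ) : ℂ) * om := by
    intro ψ
    rcases (Cfsg.Agent.S0894.result (P := K) 3 1 hE (by rw [S.card]; norm_num)).1 ψ with h1 | h1
    · refine ⟨1, 0, 0, 0, by simpa using h1, ?_⟩
      obtain ⟨l, hl⟩ := IsCharacter.exists_hom (IsIrrCharacter.isCharacter ψ.2) h1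
      obtain ⟨u, hu⟩ := S.exists_nc
      obtain ⟨v, hv, hvu⟩ := S.exists_move hu
      have e : (⟨v, hv⟩ : K) * ⟨u, hu.1⟩ * (⟨v, hv⟩ : K)⁻¹ = ⟨u, hu.1⟩ * zP := Subtype.ext hvu
      have := congrArg l e
      rw [map_mul, map_mul, map_mul, map_inv, mul_comm (l ⟨v, hv⟩), mul_inv_cancel_right,
        left_eq_mul] at this
      rw [hl]
      simp [this]
    · obtain ⟨w, -, hw⟩ := CfsgLib.BlockStar.exists_central_scalar ψ.2 (z := zP)
        fun y => Subtype.ext (S.z_comm y y.2)
      have hw3 : w ^ 3 = 1 := by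
        have h3 : (ψ : K → ℂ) 1 = w ^ 3 * (ψ : K → ℂ) 1 := by
          calc (ψ : K → ℂ) 1 = (ψ : K → ℂ) (zP * (zP * (zP * 1))) := by
                refine congrArg _ (Subtype.ext ?_)
                show (1 : G) = z * (z * (z * 1))
                rw [mul_one, ← S.z3, pow_succ', pow_two]
            _ = _ := by rw [hw, hw, hw]; ring
        exact mul_right_cancel₀ (irr_one_ne_zero ψ) (by rw [one_mul]; exact h3.symm)
      obtain ⟨A, B, hAB⟩ := cube_root hw3
      refine ⟨0, 1, A, B, by rw [h1]; norm_num, ?_⟩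
      have := hw 1
      rw [mul_one, h1, hAB] at this
      rw [this]; push_cast; ring
  choose t D A B hd hz using hcase
  choose mult hmult using fun ψ : IrrCharacter K =>
    IsCharacter.exists_classInner_eq_natCast'
      (IsCharacter.restrict (isCharacter_irr χ) K) (isCharacter_irr ψ)
  refine ⟨∑ ψ, (mult ψ : ℤ) * t ψ, ∑ ψ, (mult ψ : ℤ) * A ψ, ∑ ψ, (mult ψ : ℤ) * B ψ,
    ∑ ψ, (mult ψ : ℤ) * D ψ, ?_, ?_⟩
  · have h := classFun_expand hcl zP
    simp only [hmult, hz] at h
    refine h.trans ?_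
    push_cast
    simp only [mul_sum, sum_mul, ← sum_add_distrib]
    exact sum_congr rfl fun ψ _ => by ring
  · have h := classFun_expand hcl (1 : K)
    simp only [hmult, hd] at h
    have h' : ((charDegree (χ : G → ℂ) : ℤ) : ℂ) = (χ : G → ℂ) ((1 : K) : G) := by
      rw [OneMemClass.coe_one, (irr_one χ).1, Int.cast_natCast]
    apply Int.cast_injective (α := ℂ)
    rw [h', h]
    push_cast
    simp only [mul_sum, ← sum_add_distrib]
    exact sum_congr rfl fun ψ _ => by ring

variable [Fintype (Subgroup.centralizer ({z} : Set G))]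
  [Fintype ((Subgroup.centralizer ({z} : Set G)) ⧸ Zc z)]
  [Fintype ↥(principalBlock M ((Subgroup.centralizer ({z} : Set G)) ⧸ Zc z))]
  {n : ℕ} (B : Basis M ((Subgroup.centralizer ({z} : Set G)) ⧸ Zc z) n)

include S in
/-- The coefficients on the section of `z`. -/
theorem exists_ab (hM : IsPModular 3 M)
    [Fintype ↥(principalBlock M (Subgroup.centralizer ({z} : Set G)))]
    (e : ↥(principalBlock M (Subgroup.centralizer ({z} : Set G))) → Fin n → ℤ)
    (he : ∀ θ s, ¬ 3 ∣ orderOf s →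
      (θ.1 : Subgroup.centralizer ({z} : Set G) → ℂ) s = ∑ j, (e θ j : ℂ) * B.φ j (QuotientGroup.mk s))
    {χ : IrrCharacter G} (hχ : χ ∈ principalBlock M G) :
    ∃ a b : Fin n → ℤ, ∀ s : Subgroup.centralizer ({z} : Set G), ¬ 3 ∣ orderOf s →
      (χ : G → ℂ) (z * (s : G)) =
        ∑ j, ((a j : ℂ) + (b j : ℂ) * om) * B.φ j (QuotientGroup.mk s) := by
  haveI : Fact (Nat.Prime 3) := ⟨Nat.prime_three⟩
  revert e he
  set H := Subgroup.centralizer ({z} : Set G)
  intro e he
  letI := irrFintype (G := H)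
  have hord : orderOf z = 3 ^ 1 := by rw [S.z_ord, pow_one]
  have hlam : ∀ θ : ↥(principalBlock M H), ∃ A B m : ℤ,
      classInner (secFun H z χ) (θ.1 : H → ℂ) = ((A : ℂ) + (B : ℂ) * om) * (m : ℂ) := by
    intro θ
    obtain ⟨lam, m, hlam, -, -, hm⟩ := exists_section_coeff hM (H := H) (y := z) rfl hord χ θ.1
    obtain ⟨A, B, hAB⟩ := cube_root (by rwa [pow_one] at hlam)
    exact ⟨A, B, m, by rw [hm, hAB]; push_cast; rfl⟩
  choose A B' m hm using hlam
  refine ⟨fun j => ∑ θ, A θ * m θ * e θ j, fun j => ∑ θ, B' θ * m θ * e θ j, fun s hs => ?_⟩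
  rw [principal_section hM hord hχ s hs, blockPart_eq_sum_inner,
    sum_subtype (univ.filter (· ∈ principalBlock M H)) (p := (· ∈ principalBlock M H)) (by simp)
      fun θ : IrrCharacter H => classInner (fun c : H => (χ : G → ℂ) (z * (c : G))) (θ : H → ℂ) *
        (θ : H → ℂ) s]
  refine (sum_congr rfl fun θ _ => congrArg₂ (· * ·) (hm θ) (he θ s hs)).trans ?_
  simp only [mul_sum]
  rw [sum_comm]
  refine sum_congr rfl fun j _ => ?_
  push_cast
  simp only [sum_mul, ← sum_add_distrib]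
  exact sum_congr rfl fun θ _ => by ring

include S in
theorem regular_lift {q : (Subgroup.centralizer ({z} : Set G)) ⧸ Zc z} (hq : ¬ 3 ∣ orderOf q) :
    ∃ s : Subgroup.centralizer ({z} : Set G), ¬ 3 ∣ orderOf s ∧ QuotientGroup.mk s = q := by
  haveI : Fact (Nat.Prime 3) := ⟨Nat.prime_three⟩
  exact CfsgLib.BlockB.exists_regular_lift S.isPGroup_Zc hq

end Setting

theorem conj_phi {Q : Type w} [Group Q] [Fintype Q] {n : ℕ} (B : Basis M Q n) (j : Fin n) (q : Q) :
    conj (B.φ j q) = B.φ j q⁻¹ := by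
  simp only [Basis.φ, map_mul, map_intCast, conj_irr]

/-- A bilinear relation in the basic characters is trivial. -/
theorem pair_zero {Q : Type w} [Group Q] [Fintype Q] {n : ℕ} (B : Basis M Q n)
    (T : Fin n → Fin n → ℂ) (h : ∀ q q', ¬ 3 ∣ orderOf q → ¬ 3 ∣ orderOf q' →
      ∑ i, ∑ j, T i j * B.φ i q * B.φ j q' = 0) (i j : Fin n) : T i j = 0 := by
  refine congrFun (B.indep (fun j => T i j) fun q' hq' => ?_) j
  refine congrFun (B.indep (fun i => ∑ j, T i j * B.φ j q') fun q hq => ?_) i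
  rw [← h q q' hq hq']
  refine sum_congr rfl fun i _ => ?_
  rw [sum_mul]
  exact sum_congr rfl fun j _ => by ring

namespace Setting

variable (S : Setting P z)

include S in
/-- The columns. -/
theorem exists_cols (hM : IsPModular 3 M) (hE : Cfsg.IsExtraspecial 3 ↥(P : Subgroup G))
    [Fintype (Subgroup.centralizer ({z} : Set G))]
    [Fintype ((Subgroup.centralizer ({z} : Set G)) ⧸ Zc z)]
    [Fintype ↥(principalBlock M ((Subgroup.centralizer ({z} : Set G)) ⧸ Zc z))]
    [Fintype ↥(principalBlock M G)]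
    {n c : ℕ} (B : Basis M ((Subgroup.centralizer ({z} : Set G)) ⧸ Zc z) n)
    (K : Classes G c) (hz : ∀ r, ¬ IsConj z (K.u r))
    (hall : ∀ g : G, (∃ k : ℕ, orderOf g = 3 ^ k) → g ≠ 1 →
      IsConj g z ∨ IsConj g z⁻¹ ∨ ∃ r, IsConj g (K.u r)) :
    ∃ L : Cols ↥(principalBlock M G) n c B.cartan, L.toVCols = K.vcols hM := by
  haveI : Fact (Nat.Prime 3) := ⟨Nat.prime_three⟩
  set H := Subgroup.centralizer ({z} : Set G)
  letI := irrFintype (G := G)
  letI := irrFintype (G := H)
  letI : Fintype ↥(principalBlock M H) := Fintype.ofFinite _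
  obtain ⟨e, he, hgram⟩ := exists_coeff hM (Zc_le_center z) S.card_Zc
    (S.factorization_of_le S.le_cent) B
  choose a b hab using fun χ : ↥(principalBlock M G) => S.exists_ab B hM e he χ.2
  have hord : orderOf z = 3 ^ 1 := by rw [S.z_ord, pow_one]
  have hpp : ∀ s : H, ¬ 3 ∣ orderOf s → IsPPart 3 (z * (s : G)) z := fun s hs =>
    isPPart_of_order S.z_ord (show Commute z (s : G) from
      (Subgroup.mem_centralizer_singleton_iff.1 s.2).symm) (by rwa [Subgroup.orderOf_coe])
  have hcomm : ∀ s : H, Commute z (s : G) := fun s =>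
    (Subgroup.mem_centralizer_singleton_iff.1 s.2).symm
  have hinv : ∀ s : H, ¬ 3 ∣ orderOf s → ¬ 3 ∣ orderOf s⁻¹ := fun s hs => by rwa [orderOf_inv]
  have hsum : ∀ f : IrrCharacter G → ℂ, ∑ χ ∈ univ.filter (· ∈ principalBlock M G), f χ =
      ∑ χ : ↥(principalBlock M G), f χ.1 := fun f =>
    sum_subtype (univ.filter (· ∈ principalBlock M G)) (p := (· ∈ principalBlock M G)) (by simp) f
  -- the conjugate column
  have hconj : ∀ (χ : ↥(principalBlock M G)) (s : H), ¬ 3 ∣ orderOf s →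
      conj ((χ.1 : G → ℂ) (z * (s : G))) = ∑ j, ((a χ j : ℂ) + (b χ j : ℂ) * (-1 - om)) *
        B.φ j (QuotientGroup.mk s)⁻¹ := fun χ s hs => by
    rw [hab χ s hs, map_sum]
    exact sum_congr rfl fun j _ => by
      simp only [map_mul, map_add, map_intCast, conj_om, conj_phi]
  -- the first relation
  have h1 : ∀ i j, ∑ χ : ↥(principalBlock M G), ((a χ i : ℂ) + (b χ i : ℂ) * om) *
      ((a χ j : ℂ) + (b χ j : ℂ) * (-1 - om)) = 3 * (B.cartan i j : ℂ) := by
    intro i j
    refine sub_eq_zero.1 (pair_zero B (fun i j => (∑ χ : ↥(principalBlock M G),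
      ((a χ i : ℂ) + (b χ i : ℂ) * om) * ((a χ j : ℂ) + (b χ j : ℂ) * (-1 - om))) -
        3 * (B.cartan i j : ℂ)) (fun q q' hq hq' => ?_) i j)
    obtain ⟨s, hs, rfl⟩ := S.regular_lift hq
    obtain ⟨t, ht, htq⟩ := S.regular_lift (q := q'⁻¹) (by rwa [orderOf_inv])
    have hk := principal_section_kernel hM hord s t hs ht
    rw [hsum, sum_subtype (univ.filter (· ∈ principalBlock M H)) (p := (· ∈ principalBlock M H))
      (by simp) fun θ : IrrCharacter H => (θ : H → ℂ) s * conj ((θ : H → ℂ) t)] at hk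
    have hr : ∀ θ : ↥(principalBlock M H), conj ((θ.1 : H → ℂ) t) =
        ∑ j, (e θ j : ℂ) * B.φ j q' := fun θ => by
      rw [he θ t ht, map_sum]
      exact sum_congr rfl fun j _ => by rw [map_mul, map_intCast, conj_phi, htq, inv_inv]
    simp only [hab _ s hs, hconj _ t ht, htq, inv_inv, hr, he _ s hs, sum_mul_sum] at hk
    have hR : ∑ θ : ↥(principalBlock M H), ∑ i, ∑ j, (e θ i : ℂ) * B.φ i (QuotientGroup.mk s) *
        ((e θ j : ℂ) * B.φ j q') =
        ∑ i, ∑ j, 3 * (B.cartan i j : ℂ) * B.φ i (QuotientGroup.mk s) * B.φ j q' := by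
      rw [sum_comm]
      refine sum_congr rfl fun i _ => ?_
      rw [sum_comm]
      refine sum_congr rfl fun j _ => ?_
      rw [show (3 : ℂ) * (B.cartan i j : ℂ) = ((∑ θ, e θ i * e θ j : ℤ) : ℂ) by rw [hgram]; push_cast; rfl]
      push_cast
      simp only [sum_mul]
      exact sum_congr rfl fun θ _ => by ring
    rw [hR] at hk
    simp only [sub_mul, sum_sub_distrib, sum_mul]
    rw [sub_eq_zero, ← hk]
    symm
    rw [sum_comm]
    refine sum_congr rfl fun i _ => ?_
    rw [sum_comm]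
    exact sum_congr rfl fun j _ => sum_congr rfl fun χ _ => by ring
  -- the second relation
  have h2 : ∀ i j, ∑ χ : ↥(principalBlock M G), ((a χ i : ℂ) + (b χ i : ℂ) * om) *
      ((a χ j : ℂ) + (b χ j : ℂ) * om) = 0 := by
    intro i j
    refine pair_zero B (fun i j => ∑ χ : ↥(principalBlock M G),
      ((a χ i : ℂ) + (b χ i : ℂ) * om) * ((a χ j : ℂ) + (b χ j : ℂ) * om))
        (fun q q' hq hq' => ?_) i j
    obtain ⟨s, hs, rfl⟩ := S.regular_lift hq
    obtain ⟨t, ht, rfl⟩ := S.regular_lift hq'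
    have hzi : orderOf z⁻¹ = 3 := by rw [orderOf_inv, S.z_ord]
    have hk := block_orth hM (intClass (M := M) G) (hpp s hs)
      (isPPart_of_order hzi (hcomm t).inv_inv (by rw [orderOf_inv, Subgroup.orderOf_coe]; exact ht))
      (fun h => by
        obtain ⟨g, hg⟩ := isConj_iff.1 h
        have := S.weakly_closed (g := g) (hg ▸ inv_mem S.z_mem)
        exact S.z_inv_ne (hg.symm.trans this))
    rw [hsum] at hk
    have hc : ∀ χ : ↥(principalBlock M G), conj ((χ.1 : G → ℂ) (z⁻¹ * (t : G)⁻¹)) =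
        ∑ j, ((a χ j : ℂ) + (b χ j : ℂ) * om) * B.φ j (QuotientGroup.mk t) := fun χ => by
      rw [conj_irr, mul_inv_rev, inv_inv, inv_inv, ← (hcomm t).eq, hab χ t ht]
    simp only [hab _ s hs, hc, sum_mul_sum] at hk
    rw [← hk]
    simp only [sum_mul]
    symm
    rw [sum_comm]
    refine sum_congr rfl fun i _ => ?_
    rw [sum_comm]
    exact sum_congr rfl fun j _ => sum_congr rfl fun χ _ => by ring
  have hgrams : ∀ i j, ∑ χ, a χ i * a χ j = 2 * B.cartan i j ∧
      ∑ χ, b χ i * b χ j = 2 * B.cartan i j ∧ ∑ χ, a χ i * b χ j = B.cartan i j := by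
    intro i j
    obtain ⟨x1, x2⟩ := int_om_eq
      (a := (∑ χ, a χ i * a χ j) + (∑ χ, b χ i * b χ j) - ∑ χ, a χ i * b χ j)
      (b := (∑ χ, b χ i * a χ j) - ∑ χ, a χ i * b χ j) (a' := 3 * B.cartan i j) (b' := 0) (by
        push_cast
        rw [zero_mul, add_zero, ← h1 i j]
        simp only [sum_mul, sub_mul, add_mul, ← sum_add_distrib, ← sum_sub_distrib]
        exact sum_congr rfl fun χ _ => by linear_combination ((b χ i : ℂ) * (b χ j : ℂ)) * om_sq)
    obtain ⟨x3, x4⟩ := int_om_eq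
      (a := (∑ χ, a χ i * a χ j) - ∑ χ, b χ i * b χ j)
      (b := (∑ χ, b χ i * a χ j) + (∑ χ, a χ i * b χ j) - ∑ χ, b χ i * b χ j)
      (a' := 0) (b' := 0) (by
        push_cast
        rw [zero_mul, add_zero, ← h2 i j]
        simp only [sum_mul, sub_mul, add_mul, ← sum_add_distrib, ← sum_sub_distrib]
        exact sum_congr rfl fun χ _ => by linear_combination -((b χ i : ℂ) * (b χ j : ℂ)) * om_sq)
    omega
  -- orthogonality to another section
  have horth : ∀ f : ↥(principalBlock M G) → ℤ,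
      (∀ s : H, ¬ 3 ∣ orderOf s → ∑ χ, (χ.1 : G → ℂ) (z * (s : G)) * (f χ : ℂ) = 0) →
      ∀ i, ∑ χ, a χ i * f χ = 0 ∧ ∑ χ, b χ i * f χ = 0 := by
    intro f hf i
    have h := congrFun (B.indep (fun j => ∑ χ : ↥(principalBlock M G),
      ((a χ j : ℂ) + (b χ j : ℂ) * om) * (f χ : ℂ)) fun q hq => ?_) i
    · refine int_om ?_
      rw [← h.trans (Pi.zero_apply i)]
      push_cast
      simp only [sum_mul, ← sum_add_distrib]
      exact sum_congr rfl fun χ _ => by ring
    obtain ⟨s, hs, rfl⟩ := S.regular_lift hq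
    rw [← hf s hs]
    simp only [hab _ s hs, sum_mul]
    rw [sum_comm]
    exact sum_congr rfl fun χ _ => sum_congr rfl fun j _ => by ring
  have hv : ∀ r i, ∑ χ, a χ i * val K r χ.1 = 0 ∧ ∑ χ, b χ i * val K r χ.1 = 0 := fun r =>
    horth (fun χ => val K r χ.1) fun s hs => sum_val_eq_zero K r hM (hpp s hs) (hz r)
  have hd : ∀ i, ∑ χ, a χ i * (charDegree (χ.1 : G → ℂ) : ℤ) = 0 ∧
      ∑ χ, b χ i * (charDegree (χ.1 : G → ℂ) : ℤ) = 0 := by
    refine horth (fun χ => (charDegree (χ.1 : G → ℂ) : ℤ)) fun s hs => ?_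
    have h := block_orth hM (intClass (M := M) G) (hpp s hs)
      (isPPart_one (s := (1 : G)) (by rw [orderOf_one]; norm_num)) (not_isConj_one S.z_ord)
    rw [hsum] at h
    rw [← h]
    exact sum_congr rfl fun χ _ => by rw [(irr_one χ.1).1]; simp
  -- the congruences
  have hcong : ∀ χ : ↥(principalBlock M G), (3 : ℤ) ∣ (∑ i, b χ i) ∧
      (3 : ℤ) ∣ (∑ i, a χ i) - (charDegree (χ.1 : G → ℂ) : ℤ) := by
    intro χ
    obtain ⟨m, A, B', N, hval, hdeg⟩ := S.value_z hE χ.1
    have h := hab χ 1 (by rw [orderOf_one]; norm_num)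
    rw [OneMemClass.coe_one, mul_one, hval, QuotientGroup.mk_one] at h
    obtain ⟨x1, x2⟩ := int_om_eq (a := m + 3 * A) (b := 3 * B')
      (a' := ∑ j, a χ j * (B.sgn j * (charDegree ((B.idx j).1 : (Subgroup.centralizer ({z} : Set G)) ⧸ Zc z → ℂ) : ℤ)))
      (b' := ∑ j, b χ j * (B.sgn j * (charDegree ((B.idx j).1 : (Subgroup.centralizer ({z} : Set G)) ⧸ Zc z → ℂ) : ℤ))) (by
        rw [h]
        push_cast
        simp only [sum_mul, ← sum_add_distrib]
        exact sum_congr rfl fun j _ => by rw [Basis.φ, (irr_one (B.idx j).1).1]; ring)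
    have key : ∀ f : Fin n → ℤ, (3 : ℤ) ∣
        (∑ j, f j * (B.sgn j * (charDegree ((B.idx j).1 : (Subgroup.centralizer ({z} : Set G)) ⧸ Zc z → ℂ) : ℤ))) - ∑ j, f j := fun f => by
      rw [← sum_sub_distrib]
      refine dvd_sum fun j _ => ?_
      rw [← mul_sub_one]
      exact (B.cong j).mul_left _
    have := key (a χ)
    have := key (b χ)
    omega
  have hne : ∀ χ : ↥(principalBlock M G), (∃ i, a χ i ≠ 0) ∨ ∃ i, b χ i ≠ 0 := by
    intro χ
    by_contra h
    push Not at h
    obtain ⟨ha0, hb0⟩ := h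
    have h3 : 3 ∣ Nat.card G := S.z_ord ▸ orderOf_dvd_natCard z
    obtain ⟨g, hg, hne⟩ := exists_singular_ne_zero hM h3 χ.2
    have hd3 : (3 : ℤ) ∣ (K.vcols hM).d χ := by
      have := (hcong χ).2
      rw [sum_eq_zero fun i _ => ha0 i, zero_sub, dvd_neg] at this
      exact this
    have hz0 : ∀ s : H, ¬ 3 ∣ orderOf s → (χ.1 : G → ℂ) (z * (s : G)) = 0 := fun s hs => by
      rw [hab χ s hs]
      exact sum_eq_zero fun j _ => by rw [ha0, hb0]; simp
    refine hne (vanish_of_reps ({z, z⁻¹} ∪ Set.range K.u) (fun g hg h1 => ?_) χ.1 ?_ g hg)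
    · rcases hall g hg h1 with h | h | ⟨r, hr⟩
      · exact ⟨z, Or.inl (Or.inl rfl), h⟩
      · exact ⟨z⁻¹, Or.inl (Or.inr rfl), h⟩
      · exact ⟨K.u r, Or.inr ⟨r, rfl⟩, hr⟩
    · rintro x ((rfl | rfl) | ⟨r, rfl⟩) s hs hreg
      · exact hz0 ⟨s, Subgroup.mem_centralizer_singleton_iff.2 hs.symm.eq⟩
          (by rwa [Subgroup.orderOf_mk])
      · have hs' : Commute z s := by simpa using hs.inv_left
        have h0 := hz0 ⟨s⁻¹, Subgroup.mem_centralizer_singleton_iff.2 hs'.inv_right.symm.eq⟩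
          (by rw [Subgroup.orderOf_mk, orderOf_inv]; exact hreg)
        have := congrArg conj h0
        rw [map_zero, conj_irr, mul_inv_rev, inv_inv] at this
        rwa [hs'.inv_left.eq]
      · rw [section_const K r hM χ.2 hs hreg]
        have := (K.vcols hM).v_zero r hd3
        exact_mod_cast this
  exact ⟨{ K.vcols hM with
    a := fun i χ => a χ i
    b := fun i χ => b χ i
    va := fun r i => by rw [← (hv r i).1]; exact sum_congr rfl fun χ _ => mul_comm _ _
    vb := fun r i => by rw [← (hv r i).2]; exact sum_congr rfl fun χ _ => mul_comm _ _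
    aa := fun i j => (hgrams i j).1
    bb := fun i j => (hgrams i j).2.1
    ab := fun i j => (hgrams i j).2.2
    bd := fun i => (hd i).2
    b_cong := fun χ => (hcong χ).1
    a_cong := fun χ => (hcong χ).2
    ne := hne }, rfl⟩

end Setting

end CfsgLib.ExtraThree
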