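import Mathlib

/-!
# Integral columns of a block with extraspecial defect group of order `27`

`v` are the columns at the noncentral classes, `a + b ω` the columns at the central element.
-/

set_option autoImplicit false
set_option linter.unusedSectionVars false

namespace CfsgLib.ExtraThree

open Finset
open scoped Classical

variable {ι : Type*} [Fintype ι]

/-- Bessel's inequality for orthogonal integral columns. -/
theorem bessel {κ : Type*} [Fintype κ] (f : κ → ι → ℤ) (m : κ → ℤ) (S : ℤ) (hm : ∀ k, 0 ≤ m k)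
    (hS : 0 ≤ S) (horth : ∀ k k', k ≠ k' → ∑ x, f k x * f k' x = 0)
    (hnorm : ∀ k, m k * ∑ x, f k x * f k x = S) (x₀ : ι) :
    ∑ k, m k * (f k x₀ * f k x₀) ≤ S := by
  set F : ι → ℤ := fun x => ∑ k, m k * f k x₀ * f k x with hF
  set T := ∑ k, m k * (f k x₀ * f k x₀) with hT
  have hT0 : F x₀ = T := sum_congr rfl fun k _ => by ring
  have hsq : ∑ x, F x * F x = S * T := by
    calc ∑ x, F x * F x = ∑ x, ∑ k, ∑ k', (m k * f k x₀ * (m k' * f k' x₀)) * (f k x * f k' x) := by
          refine sum_congr rfl fun x _ => ?_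
          rw [hF, sum_mul_sum]
          exact sum_congr rfl fun k _ => sum_congr rfl fun k' _ => by ring
      _ = ∑ k, ∑ k', (m k * f k x₀ * (m k' * f k' x₀)) * ∑ x, f k x * f k' x := by
          rw [sum_comm]
          refine sum_congr rfl fun k _ => ?_
          rw [sum_comm]
          exact sum_congr rfl fun k' _ => (mul_sum _ _ _).symm
      _ = ∑ k, m k * (f k x₀ * f k x₀) * S := by
          refine sum_congr rfl fun k _ => ?_
          rw [sum_eq_single k (fun k' _ hk' => by rw [horth k k' hk'.symm, mul_zero]) (by simp),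
            ← hnorm k]
          ring
      _ = S * T := by rw [← sum_mul, mul_comm]
  have h1 : F x₀ * F x₀ ≤ ∑ x, F x * F x :=
    single_le_sum (f := fun x => F x * F x) (fun x _ => mul_self_nonneg _) (mem_univ x₀)
  rw [hsq, hT0] at h1
  rcases (show 0 ≤ T from sum_nonneg fun k _ => mul_nonneg (hm k) (mul_self_nonneg _)).eq_or_lt
    with h | h
  · rw [← h]; exact hS
  · exact le_of_mul_le_mul_right (by linarith) h

/-- A column of norm two orthogonal to a positive column is a difference. -/
theorem norm_two (p d : ι → ℤ) (hd : ∀ x, 0 < d x) (hp : ∑ x, p x * p x = 2)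
    (hpd : ∑ x, p x * d x = 0) :
    ∃ x y, x ≠ y ∧ p x = 1 ∧ p y = -1 ∧ d x = d y ∧ ∀ z, z ≠ x → z ≠ y → p z = 0 := by
  have hsmall : ∀ x, p x = 0 ∨ p x = 1 ∨ p x = -1 := by
    intro x
    have h1 : p x * p x ≤ 2 :=
      hp ▸ single_le_sum (f := fun x => p x * p x) (fun x _ => mul_self_nonneg _) (mem_univ x)
    have h2 : -1 ≤ p x := by nlinarith
    have h3 : p x ≤ 1 := by nlinarith
    omega
  set s := univ.filter fun x => p x ≠ 0 with hs
  have hcard : s.card = 2 := by
    have : ∑ x ∈ s, p x * p x = 2 := by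
      refine (sum_filter_of_ne ?_).trans hp
      exact fun x _ h hx => h (by rw [hx, mul_zero])
    rw [sum_congr rfl fun x hx => show p x * p x = 1 by
      rcases hsmall x with h | h | h
      · exact absurd h (mem_filter.1 hx).2
      · rw [h]; rfl
      · rw [h]; rfl, sum_const, nsmul_eq_mul, mul_one] at this
    exact_mod_cast this
  obtain ⟨x, y, hxy, hs2⟩ := card_eq_two.1 hcard
  have hout : ∀ z, z ≠ x → z ≠ y → p z = 0 := fun z h1 h2 => by
    by_contra h
    have : z ∈ s := mem_filter.2 ⟨mem_univ _, h⟩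
    rw [hs2] at this
    simp [h1, h2] at this
  have hx0 : p x ≠ 0 := (mem_filter.1 (show x ∈ s by rw [hs2]; simp)).2
  have hy0 : p y ≠ 0 := (mem_filter.1 (show y ∈ s by rw [hs2]; simp)).2
  have heq : p x * d x + p y * d y = 0 := by
    rw [← sum_pair hxy (f := fun z => p z * d z), ← hs2]
    refine (sum_filter_of_ne ?_).trans hpd
    exact fun z _ h hz => h (by rw [hz, zero_mul])
  have hdx := hd x
  have hdy := hd y
  rcases hsmall x with h | h | h
  · exact absurd h hx0
  · rcases hsmall y with h' | h' | h'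
    · exact absurd h' hy0
    · rw [h, h'] at heq; omega
    · refine ⟨x, y, hxy, h, h', ?_, hout⟩
      rw [h, h'] at heq
      omega
  · rcases hsmall y with h' | h' | h'
    · exact absurd h' hy0
    · refine ⟨y, x, hxy.symm, h', h, ?_, fun z a b => hout z b a⟩
      rw [h, h'] at heq
      omega
    · rw [h, h'] at heq; omega

/-- The columns at the noncentral elements. -/
structure VCols (ι : Type*) [Fintype ι] (c : ℕ) where
  o : ι
  d : ι → ℤ
  v : Fin c → ι → ℤ
  d_pos : ∀ x, 0 < d x
  d_o : d o = 1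
  v_o : ∀ r, v r o = 1
  vv : ∀ r r', ∑ x, v r x * v r' x = if r = r' then 9 else 0
  v_cong : ∀ r x, (3 : ℤ) ∣ v r x - d x

/-- The columns. -/
structure Cols (ι : Type*) [Fintype ι] (n c : ℕ) (C : Fin n → Fin n → ℤ) extends VCols ι c where
  a : Fin n → ι → ℤ
  b : Fin n → ι → ℤ
  va : ∀ r i, ∑ x, v r x * a i x = 0
  vb : ∀ r i, ∑ x, v r x * b i x = 0
  aa : ∀ i j, ∑ x, a i x * a j x = 2 * C i j
  bb : ∀ i j, ∑ x, b i x * b j x = 2 * C i j
  ab : ∀ i j, ∑ x, a i x * b j x = C i j
  bd : ∀ i, ∑ x, b i x * d x = 0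
  b_cong : ∀ x, (3 : ℤ) ∣ ∑ i, b i x
  a_cong : ∀ x, (3 : ℤ) ∣ (∑ i, a i x) - d x
  ne : ∀ x, (∃ i, a i x ≠ 0) ∨ ∃ i, b i x ≠ 0

/-- The sign making a residue one. -/
def res (d : ℤ) : ℤ := if (3 : ℤ) ∣ d - 1 then 1 else -1

theorem res_sq (d : ℤ) : res d * res d = 1 := by unfold res; split_ifs <;> rfl

theorem res_mul (d : ℤ) (hd : ¬ (3 : ℤ) ∣ d) : (3 : ℤ) ∣ res d * d - 1 := by
  unfold res; split_ifs with h <;> omega

/-- The residue-one value with small square. -/
theorem small_cases (x : ℤ) (h : (3 : ℤ) ∣ x - 1) (hx : x * x ≤ 9) : x = 1 ∨ x = -2 := by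
  have h2 : -3 ≤ x := by nlinarith
  have h3 : x ≤ 3 := by nlinarith
  omega

namespace VCols

variable {c : ℕ} (K : VCols ι c)

include K in
theorem v_sq_le (r : Fin c) (x : ι) : K.v r x * K.v r x ≤ 9 := by
  have h := single_le_sum (f := fun x => K.v r x * K.v r x) (fun x _ => mul_self_nonneg _)
    (mem_univ x)
  rw [show ∑ x, K.v r x * K.v r x = 9 by rw [K.vv, if_pos rfl]] at h
  exact h

include K in
theorem v_small (r : Fin c) {x : ι} (hx : ¬ (3 : ℤ) ∣ K.d x) :
    res (K.d x) * K.v r x = 1 ∨ res (K.d x) * K.v r x = -2 := by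
  refine small_cases _ ?_ ?_
  · rw [show res (K.d x) * K.v r x - 1 =
      res (K.d x) * (K.v r x - K.d x) + (res (K.d x) * K.d x - 1) by ring]
    exact dvd_add ((K.v_cong r x).mul_left _) (res_mul _ hx)
  · calc res (K.d x) * K.v r x * (res (K.d x) * K.v r x)
        = res (K.d x) * res (K.d x) * (K.v r x * K.v r x) := by ring
      _ ≤ 9 := by rw [res_sq, one_mul]; exact K.v_sq_le r x

include K in
theorem v_zero (r : Fin c) {x : ι} (hx : (3 : ℤ) ∣ K.d x) : K.v r x = 0 := by
  by_contra h
  have hox : K.o ≠ x := fun he => by rw [← he, K.d_o] at hx; norm_num at hx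
  obtain ⟨k, hk⟩ : (3 : ℤ) ∣ K.v r x := by
    have := dvd_add (K.v_cong r x) hx
    rwa [sub_add_cancel] at this
  have hk0 : k ≠ 0 := fun h0 => h (by rw [hk, h0, mul_zero])
  have h9 : 9 ≤ K.v r x * K.v r x := by
    have : 1 ≤ k * k := by nlinarith [mul_self_pos.2 hk0]
    rw [hk]; linarith
  have hs : ∑ y ∈ ({K.o, x} : Finset ι), K.v r y * K.v r y ≤ ∑ y, K.v r y * K.v r y :=
    sum_le_sum_of_subset_of_nonneg (subset_univ _) fun y _ _ => mul_self_nonneg _
  rw [sum_pair hox, K.v_o, K.vv, if_pos rfl] at hs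
  linarith

/-- The characters of height zero. -/
noncomputable def zero : Finset ι := univ.filter fun x => ¬ (3 : ℤ) ∣ K.d x

theorem mem_zero {x : ι} : x ∈ K.zero ↔ ¬ (3 : ℤ) ∣ K.d x := by simp [zero]

/-- The spots of a column at a noncentral element. -/
noncomputable def spots (r : Fin c) : Finset ι :=
  K.zero.filter fun x => res (K.d x) * K.v r x = -2

theorem mem_spots {r : Fin c} {x : ι} :
    x ∈ K.spots r ↔ x ∈ K.zero ∧ res (K.d x) * K.v r x = -2 := by simp [spots]

theorem spots_sub (r : Fin c) : K.spots r ⊆ K.zero := fun _ hx => (K.mem_spots.1 hx).1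

include K in
theorem v_val (r : Fin c) {x : ι} (hx : x ∈ K.zero) :
    res (K.d x) * K.v r x = 1 - 3 * (if x ∈ K.spots r then 1 else 0) := by
  rcases K.v_small r (K.mem_zero.1 hx) with h | h
  · rw [if_neg (fun hs => by have := (K.mem_spots.1 hs).2; omega), h]; rfl
  · rw [if_pos (K.mem_spots.2 ⟨hx, h⟩), h]; rfl

include K in
theorem zero_card (r : Fin c) : (K.zero.card : ℤ) + 3 * (K.spots r).card = 9 := by
  have h : ∑ x ∈ K.zero, K.v r x * K.v r x = 9 := by
    rw [show (9 : ℤ) = ∑ x, K.v r x * K.v r x by rw [K.vv, if_pos rfl]]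
    exact sum_filter_of_ne fun x _ hne hd => hne (by rw [K.v_zero r hd, zero_mul])
  have hterm : ∀ x ∈ K.zero, K.v r x * K.v r x = 1 + 3 * (if x ∈ K.spots r then 1 else 0) := by
    intro x hx
    calc K.v r x * K.v r x = res (K.d x) * res (K.d x) * (K.v r x * K.v r x) := by
          rw [res_sq, one_mul]
      _ = (res (K.d x) * K.v r x) * (res (K.d x) * K.v r x) := by ring
      _ = _ := by rw [K.v_val r hx]; split_ifs <;> rfl
  rw [sum_congr rfl hterm, sum_add_distrib, ← mul_sum, sum_boole,
    filter_mem_eq_inter, inter_eq_right.2 (K.spots_sub r)] at h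
  simpa using h

include K in
theorem spots_orth {r r' : Fin c} (hr : r ≠ r') :
    (K.zero.card : ℤ) - 3 * (K.spots r).card - 3 * (K.spots r').card
      + 9 * (K.spots r ∩ K.spots r').card = 0 := by
  have h : ∑ x ∈ K.zero, K.v r x * K.v r' x = 0 := by
    rw [show (0 : ℤ) = ∑ x, K.v r x * K.v r' x by rw [K.vv, if_neg hr]]
    exact sum_filter_of_ne fun x _ hne hd => hne (by rw [K.v_zero r hd, zero_mul])
  have hterm : ∀ x ∈ K.zero, K.v r x * K.v r' x = 1 - 3 * (if x ∈ K.spots r then 1 else 0)
      - 3 * (if x ∈ K.spots r' then 1 else 0)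
      + 9 * (if x ∈ K.spots r ∩ K.spots r' then 1 else 0) := by
    intro x hx
    calc K.v r x * K.v r' x = res (K.d x) * res (K.d x) * (K.v r x * K.v r' x) := by
          rw [res_sq, one_mul]
      _ = (res (K.d x) * K.v r x) * (res (K.d x) * K.v r' x) := by ring
      _ = _ := by
          rw [K.v_val r hx, K.v_val r' hx]
          by_cases h1 : x ∈ K.spots r <;> by_cases h2 : x ∈ K.spots r' <;> simp [h1, h2]
  rw [sum_congr rfl hterm, sum_add_distrib, sum_sub_distrib, sum_sub_distrib, ← mul_sum, ← mul_sum,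
    ← mul_sum, sum_boole, sum_boole, sum_boole, filter_mem_eq_inter, filter_mem_eq_inter,
    filter_mem_eq_inter, inter_eq_right.2 (K.spots_sub r), inter_eq_right.2 (K.spots_sub r'),
    inter_eq_right.2 (inter_subset_left.trans (K.spots_sub r))] at h
  simpa using h

include K in
/-- The shape with six characters. -/
theorem shape {n : ℕ} (hn : n + c = 6) (hn0 : 0 < n) (hc : 0 < c)
    (hz : ∀ x, x ∈ K.zero) (h6 : Fintype.card ι = 6) :
    ∃ e : Fin 6 ≃ ι, e 0 = K.o ∧ ∀ r i,
      res (K.d (e i)) * K.v r (e i) = if (i : ℕ) = n + r then -2 else 1 := by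
  have hu : K.zero = univ := eq_univ_of_forall hz
  have hk : K.zero.card = 6 := by rw [hu, card_univ, h6]
  have hspot : ∀ r, (K.spots r).card = 1 := fun r => by have := K.zero_card r; omega
  choose s hs using fun r => card_eq_one.1 (hspot r)
  have hsi : Function.Injective s := fun r r' h => by
    by_contra hne
    have := K.spots_orth hne
    rw [hspot, hspot, hs r, hs r', h, inter_self, card_singleton, hk] at this
    omega
  have ho : ∀ r, s r ≠ K.o := fun r h => by
    have := (K.mem_spots.1 (show K.o ∈ K.spots r by rw [hs r, mem_singleton, h])).2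
    rw [K.d_o, K.v_o] at this
    simp [res] at this
  set N := (univ : Finset ι) \ univ.image s with hN
  have hNc : Fintype.card N = n := by
    rw [Fintype.card_coe, hN, card_sdiff_of_subset (subset_univ _), card_univ, h6,
      card_image_of_injective _ hsi, card_univ, Fintype.card_fin]
    omega
  have hoN : K.o ∈ N := by simp [hN, ho]
  let e0 := (Fintype.equivFinOfCardEq hNc).symm
  let e1 : Fin n ≃ N := (Equiv.swap ⟨0, hn0⟩ (e0.symm ⟨K.o, hoN⟩)).trans e0
  let g : Fin 6 → ι := fun i =>
    if h : (i : ℕ) < n then (e1 ⟨i, h⟩ : ι) else s ⟨(i : ℕ) - n, by omega⟩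
  have hginj : Function.Injective g := by
    intro i j hij
    simp only [g] at hij
    split_ifs at hij with h1 h2 h2
    · have := congrArg Fin.val (e1.injective (Subtype.ext hij))
      exact Fin.ext this
    · exact absurd (mem_image_of_mem s (mem_univ _)) (hij ▸ (mem_sdiff.1 (e1 ⟨i, h1⟩).2).2)
    · exact absurd (mem_image_of_mem s (mem_univ _)) (hij ▸ (mem_sdiff.1 (e1 ⟨j, h2⟩).2).2)
    · have := congrArg Fin.val (hsi hij)
      exact Fin.ext (by simp only at this; omega)
  have hgbij : Function.Bijective g :=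
    (Fintype.bijective_iff_injective_and_card g).2 ⟨hginj, by simp [h6]⟩
  refine ⟨Equiv.ofBijective g hgbij, ?_, fun r i => ?_⟩
  · show g 0 = K.o
    simp [g, hn0, e1]
  · show res (K.d (g i)) * K.v r (g i) = _
    rw [K.v_val r (hz _)]
    have hmem : g i ∈ K.spots r ↔ (i : ℕ) = n + r := by
      rw [hs r, mem_singleton]
      have hr : s r = g ⟨n + r, by omega⟩ := by simp [g]
      rw [hr, hginj.eq_iff, Fin.ext_iff]
    by_cases h : g i ∈ K.spots r
    · rw [if_pos h, if_pos (hmem.1 h)]; rfl
    · rw [if_neg h, if_neg (fun hh => h (hmem.2 hh))]; rfl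

include K in
/-- The number of characters without positive height. -/
theorem card_three_six_nine (hz : ∀ x, x ∈ K.zero) (hc : 0 < c) :
    (c = 1 → Fintype.card ι = 3 ∨ Fintype.card ι = 6 ∨ Fintype.card ι = 9) ∧
      (2 ≤ c → Fintype.card ι = 6 ∨ Fintype.card ι = 3) := by
  have hu : K.zero = univ := eq_univ_of_forall hz
  have hpos : 0 < Fintype.card ι := Fintype.card_pos_iff.2 ⟨K.o⟩
  have h1 := K.zero_card ⟨0, hc⟩
  rw [hu, card_univ] at h1
  refine ⟨fun _ => by omega, fun hc2 => ?_⟩
  have h2 := K.zero_card ⟨1, by omega⟩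
  have h3 := K.spots_orth (r := ⟨0, hc⟩) (r' := ⟨1, by omega⟩) (by simp [Fin.ext_iff])
  have h5 : (K.spots (⟨0, hc⟩ : Fin c) ∩ K.spots ⟨1, by omega⟩).card ≤
      (K.spots (⟨0, hc⟩ : Fin c)).card := card_le_card inter_subset_left
  rw [hu, card_univ] at h2 h3
  omega

include K in
/-- Three characters leave room for one column only. -/
theorem no_three (hz : ∀ x, x ∈ K.zero) (hc : 2 ≤ c) : Fintype.card ι ≠ 3 := by
  intro h
  have hu : K.zero = univ := eq_univ_of_forall hz
  have h1 := K.zero_card ⟨0, by omega⟩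
  have h2 := K.zero_card ⟨1, by omega⟩
  have h3 := K.spots_orth (r := ⟨0, by omega⟩) (r' := ⟨1, by omega⟩) (by simp [Fin.ext_iff])
  have hsub : ∀ r, K.spots r ⊆ univ.erase K.o := fun r x hx => by
    refine mem_erase.2 ⟨?_, mem_univ _⟩
    rintro rfl
    have := (K.mem_spots.1 hx).2
    rw [K.d_o, K.v_o] at this
    simp [res] at this
  have h4 := card_le_card (union_subset (hsub ⟨0, by omega⟩) (hsub ⟨1, by omega⟩))
  have h5 := card_union_add_card_inter (K.spots (⟨0, by omega⟩ : Fin c)) (K.spots ⟨1, by omega⟩)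
  rw [card_erase_of_mem (mem_univ _), card_univ, h] at h4
  rw [hu, card_univ, h] at h1 h2 h3
  omega

end VCols

/-- The auxiliary integral matrix. -/
structure Factor {n : ℕ} (C : Fin n → Fin n → ℤ) where
  M : Fin n → Fin n → ℤ
  u : Fin n → ℤ
  u_sq : ∀ p, u p * u p = 1
  gram : ∀ p q, ∑ i, ∑ j, M i p * C i j * M j q = if p = q then 9 else 0
  cong : ∀ i p, (3 : ℤ) ∣ M i p - u p
  inj : ∀ y : Fin n → ℤ, (∀ p, ∑ i, y i * M i p = 0) → y = 0

namespace Cols

variable {n c : ℕ} {C : Fin n → Fin n → ℤ} (K : Cols ι n c C) (F : Factor C)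

/-- The transformed real part. -/
def T (p : Fin n) (x : ι) : ℤ := ∑ i, K.a i x * F.M i p

/-- The transformed imaginary part, divided by three. -/
def W (p : Fin n) (x : ι) : ℤ := (∑ i, K.b i x * F.M i p) / 3

include K in
theorem three_W (p : Fin n) (x : ι) : 3 * K.W F p x = ∑ i, K.b i x * F.M i p := by
  refine Int.mul_ediv_cancel' ?_
  rw [show ∑ i, K.b i x * F.M i p = ∑ i, K.b i x * (F.M i p - F.u p) + F.u p * ∑ i, K.b i x by
    rw [mul_sum, ← sum_add_distrib]; exact sum_congr rfl fun i _ => by ring]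
  exact dvd_add (dvd_sum fun i _ => (F.cong i p).mul_left _) ((K.b_cong x).mul_left _)

include K in
theorem T_cong (p : Fin n) (x : ι) : (3 : ℤ) ∣ K.T F p x - F.u p * K.d x := by
  rw [show K.T F p x - F.u p * K.d x =
      ∑ i, K.a i x * (F.M i p - F.u p) + F.u p * ((∑ i, K.a i x) - K.d x) by
    rw [T, mul_sub, mul_sum, ← add_sub_assoc, ← sum_add_distrib]
    exact congrArg₂ _ (sum_congr rfl fun i _ => by ring) rfl]
  exact dvd_add (dvd_sum fun i _ => (F.cong i p).mul_left _) ((K.a_cong x).mul_left _)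

include K in
theorem pair_sum (f g : Fin n → ι → ℤ) (m : ℤ) (h : ∀ i j, ∑ x, f i x * g j x = m * C i j)
    (p q : Fin n) :
    ∑ x, (∑ i, f i x * F.M i p) * (∑ j, g j x * F.M j q) = if p = q then 9 * m else 0 := by
  calc ∑ x, (∑ i, f i x * F.M i p) * (∑ j, g j x * F.M j q)
      = ∑ x, ∑ i, ∑ j, F.M i p * F.M j q * (f i x * g j x) := sum_congr rfl fun x _ => by
        rw [sum_mul_sum]; exact sum_congr rfl fun i _ => sum_congr rfl fun j _ => by ring
    _ = ∑ i, ∑ j, F.M i p * F.M j q * ∑ x, f i x * g j x := by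
        rw [sum_comm]; refine sum_congr rfl fun i _ => ?_
        rw [sum_comm]; exact sum_congr rfl fun j _ => (mul_sum _ _ _).symm
    _ = m * ∑ i, ∑ j, F.M i p * C i j * F.M j q := by
        rw [mul_sum]; refine sum_congr rfl fun i _ => ?_
        rw [mul_sum]; exact sum_congr rfl fun j _ => by rw [h]; ring
    _ = _ := by rw [F.gram]; split_ifs <;> ring

include K in
theorem TT (p q : Fin n) : ∑ x, K.T F p x * K.T F q x = if p = q then 18 else 0 := by
  simpa [T] using K.pair_sum F K.a K.a 2 K.aa p q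

include K in
theorem WW (p q : Fin n) : ∑ x, K.W F p x * K.W F q x = if p = q then 2 else 0 := by
  have h := K.pair_sum F K.b K.b 2 K.bb p q
  simp only [← three_W] at h
  have h' : 9 * ∑ x, K.W F p x * K.W F q x = if p = q then 18 else 0 := by
    rw [mul_sum]
    refine (sum_congr rfl fun x _ => ?_).trans (h.trans (by split_ifs <;> rfl))
    ring
  split_ifs at h' ⊢ <;> omega

include K in
theorem TW (p q : Fin n) : ∑ x, K.T F p x * K.W F q x = if p = q then 3 else 0 := by
  have h := K.pair_sum F K.a K.b 1 (fun i j => by rw [one_mul, K.ab]) p q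
  simp only [← three_W] at h
  have h' : 3 * ∑ x, K.T F p x * K.W F q x = if p = q then 9 else 0 := by
    rw [mul_sum]
    refine (sum_congr rfl fun x _ => ?_).trans (h.trans (by split_ifs <;> rfl))
    simp only [T]
    ring
  split_ifs at h' ⊢ <;> omega

include K in
theorem vT (r : Fin c) (p : Fin n) : ∑ x, K.v r x * K.T F p x = 0 := by
  calc ∑ x, K.v r x * K.T F p x = ∑ i, F.M i p * ∑ x, K.v r x * K.a i x := by
        simp only [T, mul_sum]; rw [sum_comm]
        exact sum_congr rfl fun i _ => sum_congr rfl fun x _ => by ring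
    _ = 0 := sum_eq_zero fun i _ => by rw [K.va, mul_zero]

include K in
theorem vW (r : Fin c) (p : Fin n) : ∑ x, K.v r x * K.W F p x = 0 := by
  have h : 3 * ∑ x, K.v r x * K.W F p x = ∑ i, F.M i p * ∑ x, K.v r x * K.b i x := by
    rw [mul_sum, sum_congr rfl fun x _ => show 3 * (K.v r x * K.W F p x) =
      K.v r x * ∑ i, K.b i x * F.M i p by rw [← three_W]; ring]
    simp only [mul_sum]
    rw [sum_comm]
    exact sum_congr rfl fun i _ => sum_congr rfl fun x _ => by ring
  rw [sum_eq_zero (s := univ) (f := fun i => F.M i p * ∑ x, K.v r x * K.b i x)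
    fun i _ => by rw [K.vb, mul_zero]] at h
  omega

include K in
theorem Wd (p : Fin n) : ∑ x, K.W F p x * K.d x = 0 := by
  have h : 3 * ∑ x, K.W F p x * K.d x = ∑ i, F.M i p * ∑ x, K.b i x * K.d x := by
    rw [mul_sum, sum_congr rfl fun x _ => show 3 * (K.W F p x * K.d x) =
      (∑ i, K.b i x * F.M i p) * K.d x by rw [← three_W]; ring]
    simp only [mul_sum, sum_mul]
    rw [sum_comm]
    exact sum_congr rfl fun i _ => sum_congr rfl fun x _ => by ring
  rw [sum_eq_zero (s := univ) (f := fun i => F.M i p * ∑ x, K.b i x * K.d x)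
    fun i _ => by rw [K.bd, mul_zero]] at h
  omega

/-- The contribution of a row at the central element, by column. -/
def term (p : Fin n) (x : ι) : ℤ :=
  K.T F p x * K.T F p x + 9 * (K.W F p x * K.W F p x) - 3 * (K.T F p x * K.W F p x)

include K in
/-- The bound on a row. -/
theorem row_le (x : ι) : 2 * ∑ p, K.term F p x + 3 * ∑ r, K.v r x * K.v r x ≤ 27 := by
  set f : (Fin n ⊕ Fin n) ⊕ Fin c → ι → ℤ := fun k => match k with
    | .inl (.inl p) => K.T F p
    | .inl (.inr p) => fun y => 6 * K.W F p y - K.T F p y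
    | .inr r => K.v r with hf
  set m : (Fin n ⊕ Fin n) ⊕ Fin c → ℤ := fun k => match k with
    | .inl (.inl _) => 3
    | .inl (.inr _) => 1
    | .inr _ => 6 with hm
  have e1 : ∀ p q, ∑ y, K.T F p y * (6 * K.W F q y - K.T F q y) = 0 := fun p q => by
    simp only [mul_sub, sum_sub_distrib, mul_left_comm _ (6 : ℤ), ← mul_sum, TW, TT]
    split_ifs <;> rfl
  have e2 : ∀ p q, ∑ y, (6 * K.W F p y - K.T F p y) * (6 * K.W F q y - K.T F q y) =
      if p = q then 54 else 0 := fun p q => by
    calc ∑ y, (6 * K.W F p y - K.T F p y) * (6 * K.W F q y - K.T F q y)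
        = 36 * (∑ y, K.W F p y * K.W F q y) - 6 * (∑ y, K.T F q y * K.W F p y)
            - 6 * (∑ y, K.T F p y * K.W F q y) + ∑ y, K.T F p y * K.T F q y := by
          simp only [mul_sum, ← sum_sub_distrib, ← sum_add_distrib]
          exact sum_congr rfl fun y _ => by ring
      _ = _ := by
          rw [WW, TW, TW, TT]
          by_cases h : p = q
          · subst h; simp
          · simp [h, Ne.symm h]
  have e3 : ∀ r p, ∑ y, K.v r y * (6 * K.W F p y - K.T F p y) = 0 := fun r p => by
    simp only [mul_sub, sum_sub_distrib, mul_left_comm _ (6 : ℤ), ← mul_sum, vW, vT]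
    rfl
  have h := bessel f m 54 (fun k => by rcases k with (p | p) | r <;> simp [hm]) (by norm_num)
    (fun k k' hk => by
      rcases k with (p | p) | r <;> rcases k' with (q | q) | s <;> simp only [hf]
      · rw [TT, if_neg (fun h => hk (by rw [h]))]
      · exact e1 p q
      · exact (sum_congr rfl fun y _ => mul_comm _ _).trans (K.vT F s p)
      · exact (sum_congr rfl fun y _ => mul_comm _ _).trans (e1 q p)
      · rw [e2, if_neg (fun h => hk (by rw [h]))]
      · exact (sum_congr rfl fun y _ => mul_comm _ _).trans (e3 s p)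
      · exact K.vT F r q
      · exact e3 r q
      · rw [K.vv, if_neg (fun h => hk (by rw [h]))])
    (fun k => by
      rcases k with (p | p) | r <;> simp only [hf, hm]
      · rw [TT, if_pos rfl]; rfl
      · rw [e2, if_pos rfl, one_mul]
      · rw [K.vv, if_pos rfl]; rfl) x
  simp only [Fintype.sum_sum_type, hf, hm, ← mul_sum] at h
  have e4 : ∑ p, (6 * K.W F p x - K.T F p x) * (6 * K.W F p x - K.T F p x) =
      4 * ∑ p, K.term F p x - 3 * ∑ p, K.T F p x * K.T F p x := by
    simp only [mul_sum, ← sum_sub_distrib]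
    exact sum_congr rfl fun p _ => by simp only [term]; ring
  rw [one_mul, e4] at h
  linarith

include K in
theorem W_disjoint {p q : Fin n} (hpq : p ≠ q) (x : ι) : K.W F p x = 0 ∨ K.W F q x = 0 := by
  by_contra hc
  push Not at hc
  obtain ⟨a, b, hab, ha, hb, -, hout⟩ :=
    norm_two (K.W F p) K.d K.d_pos (by rw [WW, if_pos rfl]) (Wd K F p)
  obtain ⟨a', b', hab', ha', hb', -, hout'⟩ :=
    norm_two (K.W F q) K.d K.d_pos (by rw [WW, if_pos rfl]) (Wd K F q)
  have h0 : K.W F q a - K.W F q b = 0 := by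
    have h := K.WW F p q
    rw [if_neg hpq, ← sum_subset (subset_univ ({a, b} : Finset ι)) (fun z _ hz => by
      simp only [mem_insert, mem_singleton, not_or] at hz
      rw [hout z hz.1 hz.2, zero_mul]), sum_pair hab, ha, hb] at h
    linarith
  have hx : x = a ∨ x = b := by
    by_contra h; push Not at h; exact hc.1 (hout x h.1 h.2)
  have hx' : K.W F q a ≠ 0 := by
    rcases hx with rfl | rfl
    · exact hc.2
    · intro h; exact hc.2 (by omega)
  have hva : a = a' ∨ a = b' := by
    by_contra h; push Not at h; exact hx' (hout' a h.1 h.2)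
  have hvb : b = a' ∨ b = b' := by
    by_contra h; push Not at h
    have := hout' b h.1 h.2
    omega
  rcases hva with rfl | rfl <;> rcases hvb with rfl | rfl
  · exact hab rfl
  · rw [ha', hb'] at h0; omega
  · rw [ha', hb'] at h0; omega
  · exact hab rfl

include K in
theorem W_small (p : Fin n) (x : ι) : K.W F p x = 0 ∨ K.W F p x = 1 ∨ K.W F p x = -1 := by
  obtain ⟨a, b, -, ha, hb, -, hout⟩ :=
    norm_two (K.W F p) K.d K.d_pos (by rw [WW, if_pos rfl]) (Wd K F p)
  by_cases h1 : x = a
  · subst h1; exact Or.inr (Or.inl ha)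
  by_cases h2 : x = b
  · subst h2; exact Or.inr (Or.inr hb)
  exact Or.inl (hout x h1 h2)

include K in
/-- The normalised values. -/
theorem tau_cong (p : Fin n) {x : ι} (hx : x ∈ K.zero) :
    (3 : ℤ) ∣ res (K.d x) * F.u p * K.T F p x - 1 := by
  rw [show res (K.d x) * F.u p * K.T F p x - 1 = res (K.d x) * F.u p * (K.T F p x - F.u p * K.d x)
      + (res (K.d x) * K.d x * (F.u p * F.u p) - 1) by ring, F.u_sq, mul_one]
  exact dvd_add ((K.T_cong F p x).mul_left _) (res_mul _ (K.mem_zero.1 hx))

include K in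
theorem tau_sq (p : Fin n) (x : ι) :
    res (K.d x) * F.u p * K.T F p x * (res (K.d x) * F.u p * K.T F p x) =
      K.T F p x * K.T F p x := by
  linear_combination (K.T F p x * K.T F p x * (F.u p * F.u p)) * res_sq (K.d x) +
    (K.T F p x * K.T F p x) * F.u_sq p

include K in
theorem term_ge_zero_row (p : Fin n) {x : ι} (hx : x ∈ K.zero) :
    1 ≤ K.term F p x ∧ (K.W F p x ≠ 0 → 7 ≤ K.term F p x) := by
  have hT : ¬ (3 : ℤ) ∣ K.T F p x := fun h => by
    have h1 := K.tau_cong F p hx
    have h2 : (3 : ℤ) ∣ res (K.d x) * F.u p * K.T F p x := h.mul_left _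
    omega
  simp only [term]
  rcases K.W_small F p x with h | h | h <;> rw [h]
  · refine ⟨?_, fun hh => absurd rfl hh⟩
    have : K.T F p x ≠ 0 := fun h0 => hT (by rw [h0]; exact dvd_zero _)
    nlinarith [mul_self_pos.2 this]
  · have : K.T F p x ≤ 1 ∨ 2 ≤ K.T F p x := by omega
    rcases this with h' | h' <;> refine ⟨?_, fun _ => ?_⟩ <;> nlinarith
  · have : K.T F p x ≤ -2 ∨ -1 ≤ K.T F p x := by omega
    rcases this with h' | h' <;> refine ⟨?_, fun _ => ?_⟩ <;> nlinarith

include K in
theorem term_big (p : Fin n) {x : ι} (hx : x ∈ K.zero)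
    (h : K.term F p x < (if K.W F p x = 0 then 16 else 13)) :
    res (K.d x) * F.u p * K.T F p x = 1 ∨ res (K.d x) * F.u p * K.T F p x = -2 := by
  refine small_cases _ (K.tau_cong F p hx) ?_
  rw [tau_sq]
  have hT : ¬ (3 : ℤ) ∣ K.T F p x := fun h => by
    have h1 := K.tau_cong F p hx
    have h2 : (3 : ℤ) ∣ res (K.d x) * F.u p * K.T F p x := h.mul_left _
    omega
  simp only [term] at h
  rcases K.W_small F p x with hw | hw | hw <;> rw [hw] at h
  · rw [if_pos rfl] at h
    have h2 : -3 ≤ K.T F p x := by nlinarith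
    have h3 : K.T F p x ≤ 3 := by nlinarith
    nlinarith
  · rw [if_neg one_ne_zero] at h
    have h2 : 0 ≤ K.T F p x := by nlinarith
    have h3 : K.T F p x ≤ 3 := by nlinarith
    nlinarith
  · rw [if_neg (by norm_num)] at h
    have h2 : -3 ≤ K.T F p x := by nlinarith
    have h3 : K.T F p x ≤ 0 := by nlinarith
    nlinarith

include K in
theorem term_nonneg (p : Fin n) (x : ι) : 0 ≤ K.term F p x := by
  simp only [term]
  nlinarith [sq_nonneg (2 * K.T F p x - 3 * K.W F p x), mul_self_nonneg (K.W F p x)]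

include K in
theorem term_h1 (p : Fin n) {x : ι} (hx : (3 : ℤ) ∣ K.d x) (hT : K.T F p x ≠ 0) :
    9 ≤ K.term F p x := by
  obtain ⟨k, hk⟩ : (3 : ℤ) ∣ K.T F p x := by
    have h := dvd_add (K.T_cong F p x) (hx.mul_left (F.u p))
    rwa [sub_add_cancel] at h
  simp only [term, hk]
  have hk0 : k ≠ 0 := fun h => hT (by rw [hk, h, mul_zero])
  rcases K.W_small F p x with h | h | h <;> rw [h]
  · nlinarith [mul_self_pos.2 hk0]
  · have : k ≤ 0 ∨ 1 ≤ k := by omega
    rcases this with h' | h' <;> nlinarith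
  · have : k ≤ -1 ∨ 0 ≤ k := by omega
    rcases this with h' | h' <;> nlinarith

end Cols


namespace Cols

variable {n c : ℕ} {C : Fin n → Fin n → ℤ} (K : Cols ι n c C) (F : Factor C)

/-- The normalised value is `-2`. -/
def Big (p : Fin n) (x : ι) : Prop := res (K.d x) * F.u p * K.T F p x = -2

include K in
theorem v_sq_sum (x : ι) (hx : x ∈ K.zero) :
    (c : ℤ) + 3 * ((univ.filter fun r => x ∈ K.spots r).card : ℤ) = ∑ r, K.v r x * K.v r x := by
  rw [sum_congr rfl fun r _ => show K.v r x * K.v r x = 1 + 3 * (if x ∈ K.spots r then 1 else 0) by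
    calc K.v r x * K.v r x = res (K.d x) * res (K.d x) * (K.v r x * K.v r x) := by
          rw [res_sq, one_mul]
      _ = (res (K.d x) * K.v r x) * (res (K.d x) * K.v r x) := by ring
      _ = _ := by rw [K.v_val r hx]; split_ifs <;> rfl]
  rw [sum_add_distrib, ← mul_sum, sum_boole]
  simp

include K in
theorem row_split (p : Fin n) {x : ι} (hx : x ∈ K.zero) :
    (n : ℤ) - 1 + K.term F p x ≤ ∑ q, K.term F q x ∧
      ∀ q, q ≠ p → (n : ℤ) - 2 + K.term F p x + K.term F q x ≤ ∑ q, K.term F q x := by
  refine ⟨?_, fun q hq => ?_⟩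
  · have h : ∑ q, K.term F q x = K.term F p x + ∑ q ∈ univ.erase p, K.term F q x :=
      (add_sum_erase _ _ (mem_univ p)).symm
    have h2 : ((univ.erase p).card : ℤ) ≤ ∑ q ∈ univ.erase p, K.term F q x := by
      have := sum_le_sum fun q (_ : q ∈ univ.erase p) => (K.term_ge_zero_row F q hx).1
      simpa using this
    rw [card_erase_of_mem (mem_univ p), card_univ, Fintype.card_fin,
      Nat.cast_sub (by have := p.isLt; omega)] at h2
    push_cast at h2
    linarith
  · have hn : 2 ≤ n := by
      have := p.isLt; have := q.isLt; have := Fin.val_ne_of_ne hq; omega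
    have hmem : q ∈ univ.erase p := mem_erase.2 ⟨hq, mem_univ _⟩
    have h : ∑ q', K.term F q' x = K.term F p x + (K.term F q x +
        ∑ q' ∈ (univ.erase p).erase q, K.term F q' x) := by
      rw [add_sum_erase (univ.erase p) (fun q' => K.term F q' x) hmem,
        add_sum_erase univ (fun q' => K.term F q' x) (mem_univ p)]
    have h2 : (((univ.erase p).erase q).card : ℤ) ≤
        ∑ q' ∈ (univ.erase p).erase q, K.term F q' x := by
      have := sum_le_sum fun q' (_ : q' ∈ (univ.erase p).erase q) => (K.term_ge_zero_row F q' hx).1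
      simpa using this
    rw [card_erase_of_mem hmem, card_erase_of_mem (mem_univ p), card_univ, Fintype.card_fin,
      Nat.sub_sub, Nat.cast_sub (by omega)] at h2
    push_cast at h2
    linarith

include K in
theorem tau_val (hn : n + c = 6) (hc : 0 < c) (p : Fin n) {x : ι} (hx : x ∈ K.zero) :
    res (K.d x) * F.u p * K.T F p x = 1 ∨ K.Big F p x := by
  refine K.term_big F p hx ?_
  by_contra h
  push Not at h
  have h1 := K.row_le F x
  have h2 := K.v_sq_sum x hx
  have h3 := (K.row_split F p hx).1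
  have h4 := (K.term_ge_zero_row F p hx).1
  have h5 : (0 : ℤ) ≤ ((univ.filter fun r => x ∈ K.spots r).card : ℤ) := Nat.cast_nonneg _
  split_ifs at h <;> omega

include K in
theorem big_cost {p : Fin n} {x : ι} (hx : x ∈ K.zero) (hB : K.Big F p x) :
    4 ≤ K.term F p x := by
  have h : K.T F p x * K.T F p x = 4 := by rw [← K.tau_sq F p x, show _ = (-2 : ℤ) from hB]; rfl
  by_cases hW : K.W F p x = 0
  · simp only [term, h, hW, mul_zero]; norm_num
  · have := (K.term_ge_zero_row F p hx).2 hW; omega

include K in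
theorem spot_row (hn : n + c = 6) (hc : 0 < c) (p : Fin n) {r : Fin c} {x : ι}
    (hs : x ∈ K.spots r) : ¬ K.Big F p x ∧ K.W F p x = 0 := by
  have hx := K.spots_sub r hs
  have h1 := K.row_le F x
  have h2 := K.v_sq_sum x hx
  have h3 := (K.row_split F p hx).1
  have h5 : 0 < (univ.filter fun r => x ∈ K.spots r).card :=
    card_pos.2 ⟨r, mem_filter.2 ⟨mem_univ _, hs⟩⟩
  refine ⟨fun hB => ?_, ?_⟩
  · have := K.big_cost F hx hB; omega
  · by_contra hW
    have := (K.term_ge_zero_row F p hx).2 hW
    omega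

include K in
theorem big_only (hn : n + c = 6) (hc : 0 < c) {p q : Fin n} (hq : q ≠ p) {x : ι} (hx : x ∈ K.zero)
    (hW : K.W F p x ≠ 0) : ¬ K.Big F q x := by
  intro hB
  have h1 := K.row_le F x
  have h2 := K.v_sq_sum x hx
  have h3 := (K.row_split F p hx).2 q hq
  have h4 := (K.term_ge_zero_row F p hx).2 hW
  have h5 := K.big_cost F hx hB
  have h6 : (0 : ℤ) ≤ ((univ.filter fun r => x ∈ K.spots r).card : ℤ) := Nat.cast_nonneg _
  omega

/-- The large entries of a column. -/
noncomputable def bigs (p : Fin n) : Finset ι := K.zero.filter fun x => K.Big F p x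

theorem bigs_sub (p : Fin n) : K.bigs F p ⊆ K.zero := filter_subset _ _

include K in
theorem tau_eq (hn : n + c = 6) (hc : 0 < c) (p : Fin n) {x : ι} (hx : x ∈ K.zero) :
    res (K.d x) * F.u p * K.T F p x = 1 - 3 * (if x ∈ K.bigs F p then 1 else 0) := by
  rcases K.tau_val F hn hc p hx with h | h
  · rw [if_neg (fun hb => by
      have h' : res (K.d x) * F.u p * K.T F p x = -2 := (mem_filter.1 hb).2
      omega), h]
    rfl
  · rw [if_pos (show x ∈ K.bigs F p from mem_filter.2 ⟨hx, h⟩), show _ = (-2 : ℤ) from h]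
    rfl

include K in
theorem T_sq_zero (hn : n + c = 6) (hc : 0 < c) (p : Fin n) :
    ∑ x ∈ K.zero, K.T F p x * K.T F p x = (K.zero.card : ℤ) + 3 * (K.bigs F p).card := by
  rw [sum_congr rfl fun x hx => show K.T F p x * K.T F p x =
      1 + 3 * (if x ∈ K.bigs F p then 1 else 0) by
    rw [← K.tau_sq F p x, K.tau_eq F hn hc p hx]; split_ifs <;> rfl,
    sum_add_distrib, ← mul_sum, sum_boole, filter_mem_eq_inter,
    inter_eq_right.2 (K.bigs_sub F p)]
  simp

include K in
theorem bigs_card (hn : n + c = 6) (hc : 0 < c) (r : Fin c) (p : Fin n) :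
    (K.zero.card : ℤ) - 3 * (K.spots r).card - 3 * (K.bigs F p).card = 0 := by
  have h : ∑ x ∈ K.zero, K.v r x * K.T F p x = 0 := by
    rw [show (0 : ℤ) = ∑ x, K.v r x * K.T F p x from (K.vT F r p).symm]
    exact sum_filter_of_ne fun x _ hne hd => hne (by rw [K.v_zero r hd, zero_mul])
  have hterm : ∀ x ∈ K.zero, F.u p * (K.v r x * K.T F p x) = 1 -
      3 * (if x ∈ K.spots r then 1 else 0) - 3 * (if x ∈ K.bigs F p then 1 else 0) := by
    intro x hx
    calc F.u p * (K.v r x * K.T F p x)
        = res (K.d x) * res (K.d x) * (F.u p * (K.v r x * K.T F p x)) := by rw [res_sq, one_mul]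
      _ = (res (K.d x) * K.v r x) * (res (K.d x) * F.u p * K.T F p x) := by ring
      _ = _ := by
          rw [K.v_val r hx, K.tau_eq F hn hc p hx]
          by_cases h1 : x ∈ K.spots r
          · rw [if_pos h1, if_neg (show x ∉ K.bigs F p from fun hb =>
              (K.spot_row F hn hc p h1).1 (mem_filter.1 hb).2)]
            rfl
          · rw [if_neg h1]; ring
  have h' : ∑ x ∈ K.zero, F.u p * (K.v r x * K.T F p x) = 0 := by rw [← mul_sum, h, mul_zero]
  rw [sum_congr rfl hterm, sum_sub_distrib, sum_sub_distrib, ← mul_sum, ← mul_sum, sum_boole,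
    sum_boole, filter_mem_eq_inter, filter_mem_eq_inter, inter_eq_right.2 (K.spots_sub r),
    inter_eq_right.2 (K.bigs_sub F p)] at h'
  simpa using h'

include K in
theorem h1_product (_hn : n + c = 6) {p q : Fin n} (hpq : p ≠ q) {x : ι} (hx : x ∉ K.zero) :
    K.T F p x * K.T F q x = 0 := by
  have hd : (3 : ℤ) ∣ K.d x := by
    by_contra h; exact hx (K.mem_zero.2 h)
  by_contra h
  obtain ⟨hp, hq⟩ := mul_ne_zero_iff.1 h
  have h1 := K.row_le F x
  have h2 : K.term F p x + K.term F q x ≤ ∑ q', K.term F q' x := by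
    rw [← sum_pair hpq (f := fun q' => K.term F q' x)]
    exact sum_le_sum_of_subset_of_nonneg (subset_univ _) fun q' _ _ => K.term_nonneg F q' x
  have h3 := K.term_h1 F p hd hp
  have h4 := K.term_h1 F q hd hq
  have h5 : 0 ≤ ∑ r, K.v r x * K.v r x := sum_nonneg fun r _ => mul_self_nonneg _
  omega

include K in
theorem bigs_orth (hn : n + c = 6) (hc : 0 < c) {p q : Fin n} (hpq : p ≠ q) :
    (K.zero.card : ℤ) - 3 * (K.bigs F p).card - 3 * (K.bigs F q).card
      + 9 * (K.bigs F p ∩ K.bigs F q).card = 0 := by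
  have h : ∑ x ∈ K.zero, K.T F p x * K.T F q x = 0 := by
    rw [sum_subset (subset_univ _) fun x _ hx => K.h1_product F hn hpq hx, TT, if_neg hpq]
  have hterm : ∀ x ∈ K.zero, F.u p * F.u q * (K.T F p x * K.T F q x) = 1 -
      3 * (if x ∈ K.bigs F p then 1 else 0) - 3 * (if x ∈ K.bigs F q then 1 else 0) +
      9 * (if x ∈ K.bigs F p ∩ K.bigs F q then 1 else 0) := by
    intro x hx
    calc F.u p * F.u q * (K.T F p x * K.T F q x)
        = res (K.d x) * res (K.d x) * (F.u p * F.u q * (K.T F p x * K.T F q x)) := by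
          rw [res_sq, one_mul]
      _ = (res (K.d x) * F.u p * K.T F p x) * (res (K.d x) * F.u q * K.T F q x) := by ring
      _ = _ := by
          rw [K.tau_eq F hn hc p hx, K.tau_eq F hn hc q hx]
          by_cases h1 : x ∈ K.bigs F p <;> by_cases h2 : x ∈ K.bigs F q <;> simp [h1, h2]
  have h' : ∑ x ∈ K.zero, F.u p * F.u q * (K.T F p x * K.T F q x) = 0 := by
    rw [← mul_sum, h, mul_zero]
  rw [sum_congr rfl hterm, sum_add_distrib, sum_sub_distrib, sum_sub_distrib, ← mul_sum, ← mul_sum,
    ← mul_sum, sum_boole, sum_boole, sum_boole, filter_mem_eq_inter, filter_mem_eq_inter,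
    filter_mem_eq_inter, inter_eq_right.2 (K.bigs_sub F p), inter_eq_right.2 (K.bigs_sub F q),
    inter_eq_right.2 (inter_subset_left.trans (K.bigs_sub F p))] at h'
  simpa using h'

include K in
theorem sum_W_zero_card (hsub : ∀ p x, K.W F p x ≠ 0 → x ∈ K.zero) : 2 * n ≤ K.zero.card := by
  have h1 : ∀ x, ∑ p, K.W F p x * K.W F p x ≤ 1 := by
    intro x
    by_cases h : ∃ p, K.W F p x ≠ 0
    · obtain ⟨p, hp⟩ := h
      rw [sum_eq_single p (fun q _ hq => by
        rw [(K.W_disjoint F hq x).resolve_right hp, mul_zero]) (by simp)]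
      rcases K.W_small F p x with h | h | h <;> rw [h] <;> norm_num
    · push Not at h
      exact (sum_eq_zero fun p _ => by rw [h p, mul_zero]).le.trans zero_le_one
  have h2 : ∑ x ∈ K.zero, ∑ p, K.W F p x * K.W F p x = 2 * n := by
    rw [sum_subset (subset_univ _) (fun x _ hx => sum_eq_zero fun p _ => by
      by_cases h : K.W F p x = 0
      · rw [h, mul_zero]
      · exact absurd (hsub p x h) hx), sum_comm, sum_congr rfl fun p _ => by rw [WW, if_pos rfl]]
    simp [mul_comm]
  have h3 := h2 ▸ sum_le_sum fun x (_ : x ∈ K.zero) => h1 x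
  simp only [sum_const, nsmul_eq_mul, mul_one] at h3
  exact_mod_cast h3

include K in
theorem W_pair (p : Fin n) : ∃ x y, x ≠ y ∧ K.W F p x = 1 ∧ K.W F p y = -1 ∧ K.d x = K.d y ∧
    (∀ z, z ≠ x → z ≠ y → K.W F p z = 0) ∧ K.T F p x - K.T F p y = 3 := by
  obtain ⟨x, y, hxy, hx, hy, hd, hout⟩ :=
    norm_two (K.W F p) K.d K.d_pos (by rw [WW, if_pos rfl]) (K.Wd F p)
  refine ⟨x, y, hxy, hx, hy, hd, hout, ?_⟩
  have h := K.TW F p p
  rw [if_pos rfl, ← sum_subset (subset_univ ({x, y} : Finset ι)) (fun z _ hz => by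
    simp only [mem_insert, mem_singleton, not_or] at hz
    rw [hout z hz.1 hz.2, mul_zero]), sum_pair hxy, hx, hy] at h
  linarith

include K F in
theorem zero_eq_six (hn : n + c = 6) (hn0 : 0 < n) (hc : 0 < c) : K.zero.card = 6 := by
  have ho : K.o ∈ K.zero := K.mem_zero.2 (by rw [K.d_o]; norm_num)
  have hpos : 0 < K.zero.card := card_pos.2 ⟨_, ho⟩
  set r : Fin c := ⟨0, hc⟩
  set p : Fin n := ⟨0, hn0⟩
  have h1 := K.zero_card r
  have h2 := K.bigs_card F hn hc r p
  rcases Nat.lt_or_ge (K.spots r).card 1 with hs | hs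
  · -- nine characters of height zero
    exfalso
    have hc1 : c = 1 := by
      by_contra hne
      have hr : r ≠ ⟨1, by omega⟩ := fun h => by simp [r, Fin.ext_iff] at h
      have h3 := K.spots_orth hr
      have h4 := K.zero_card (⟨1, by omega⟩ : Fin c)
      have h5 : (K.spots r ∩ K.spots ⟨1, by omega⟩).card ≤ (K.spots r).card :=
        card_le_card inter_subset_left
      omega
    have hsub : ∀ q x, K.W F q x ≠ 0 → x ∈ K.zero := by
      intro q x hW
      have hb := K.bigs_card F hn hc r q
      have hz := K.T_sq_zero F hn hc q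
      have hall : ∀ y, y ∉ K.zero → K.T F q y = 0 := by
        intro y hy
        have h := K.TT F q q
        rw [if_pos rfl, ← sum_add_sum_compl K.zero, hz] at h
        have h0 : ∑ z ∈ K.zeroᶜ, K.T F q z * K.T F q z = 0 := by omega
        exact mul_self_eq_zero.1 ((sum_eq_zero_iff_of_nonneg fun z _ => mul_self_nonneg _).1 h0 y
          (mem_compl.2 hy))
      obtain ⟨a, b, -, -, -, hd, hout, hT⟩ := K.W_pair F q
      have hab : a ∈ K.zero ∧ b ∈ K.zero := by
        by_cases ha : a ∈ K.zero
        · exact ⟨ha, by rw [K.mem_zero] at ha ⊢; rwa [← hd]⟩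
        · have hb' : b ∉ K.zero := by rw [K.mem_zero] at ha ⊢; rwa [← hd]
          rw [hall a ha, hall b hb'] at hT
          norm_num at hT
      by_cases hxa : x = a
      · exact hxa ▸ hab.1
      by_cases hxb : x = b
      · exact hxb ▸ hab.2
      exact absurd (hout x hxa hxb) hW
    have := K.sum_W_zero_card F hsub
    omega
  · omega

include K F in
/-- The counts. -/
theorem counts (hn : n + c = 6) (hn0 : 0 < n) (hc : 0 < c) :
    Fintype.card ι = 6 + 2 * n ∧ K.zero.card = 6 := by
  have h6 := K.zero_eq_six F hn hn0 hc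
  have hspot : ∀ r, (K.spots r).card = 1 := fun r => by have := K.zero_card r; omega
  have hbig : ∀ p, (K.bigs F p).card = 1 := fun p => by
    have := K.bigs_card F hn hc ⟨0, hc⟩ p; have := hspot ⟨0, hc⟩; omega
  have hsd : ∀ r r', r ≠ r' → Disjoint (K.spots r) (K.spots r') := fun r r' h => by
    rw [disjoint_iff_inter_eq_empty, ← card_eq_zero]
    have := K.spots_orth h; rw [hspot r, hspot r', h6] at this; omega
  have hbd : ∀ p q, p ≠ q → Disjoint (K.bigs F p) (K.bigs F q) := fun p q h => by
    rw [disjoint_iff_inter_eq_empty, ← card_eq_zero]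
    have := K.bigs_orth F hn hc h; rw [hbig p, hbig q, h6] at this; omega
  set S := univ.biUnion K.spots
  set B := univ.biUnion (K.bigs F)
  have hS : S.card = c := by
    rw [card_biUnion fun r _ r' _ h => hsd r r' h, sum_congr rfl fun r _ => hspot r]; simp
  have hB : B.card = n := by
    rw [card_biUnion fun p _ q _ h => hbd p q h, sum_congr rfl fun p _ => hbig p]; simp
  have hSB : Disjoint S B := by
    rw [disjoint_left]
    intro x hxS hxB
    obtain ⟨r, -, hr⟩ := mem_biUnion.1 hxS
    obtain ⟨p, -, hp⟩ := mem_biUnion.1 hxB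
    exact (K.spot_row F hn hc p hr).1 (mem_filter.1 hp).2
  have hcover : K.zero = S ∪ B := by
    refine (eq_of_subset_of_card_le (union_subset (biUnion_subset.2 fun r _ => K.spots_sub r)
      (biUnion_subset.2 fun p _ => K.bigs_sub F p)) ?_).symm
    rw [card_union_of_disjoint hSB, hS, hB, h6]
    omega
  have hW0 : ∀ p x, x ∈ K.zero → K.W F p x = 0 := by
    intro p x hx
    by_contra hW
    have key : ∀ y ∈ K.zero, K.W F p y ≠ 0 → y ∈ K.bigs F p := by
      intro y hy hWy
      rcases mem_union.1 (hcover ▸ hy) with h | h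
      · obtain ⟨r, -, hr⟩ := mem_biUnion.1 h
        exact absurd (K.spot_row F hn hc p hr).2 hWy
      · obtain ⟨q, -, hq⟩ := mem_biUnion.1 h
        by_cases hqp : q = p
        · exact hqp ▸ hq
        · exact absurd (mem_filter.1 hq).2 (K.big_only F hn hc hqp hy hWy)
    obtain ⟨a, b, hab, ha, hb, hd, hout, -⟩ := K.W_pair F p
    have hz : a ∈ K.zero ∧ b ∈ K.zero := by
      have hiff : a ∈ K.zero ↔ b ∈ K.zero := by rw [K.mem_zero, K.mem_zero, hd]
      by_cases hxa : x = a
      · exact ⟨hxa ▸ hx, hiff.1 (hxa ▸ hx)⟩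
      by_cases hxb : x = b
      · exact ⟨hiff.2 (hxb ▸ hx), hxb ▸ hx⟩
      exact absurd (hout x hxa hxb) hW
    exact hab (card_le_one.1 (hbig p).le _ (key a hz.1 (by rw [ha]; norm_num)) _
      (key b hz.2 (by rw [hb]; norm_num)))
  have hex : ∀ x, x ∉ K.zero → ∑ p, K.W F p x * K.W F p x = 1 := by
    intro x hx
    obtain ⟨p, hp⟩ : ∃ p, K.W F p x ≠ 0 := by
      by_contra hno
      push Not at hno
      have hb0 : (fun i => K.b i x) = 0 := F.inj _ fun p => by
        rw [← K.three_W, hno p, mul_zero]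
      obtain ⟨p, hp⟩ : ∃ p, K.T F p x ≠ 0 := by
        by_contra hT
        push Not at hT
        have ha0 : (fun i => K.a i x) = 0 := F.inj _ hT
        rcases K.ne x with ⟨i, hi⟩ | ⟨i, hi⟩
        · exact hi (congrFun ha0 i)
        · exact hi (congrFun hb0 i)
      obtain ⟨a, b, hab, ha, hb, hd, hout, hT⟩ := K.W_pair F p
      have hax : x ≠ a := fun h => by subst h; rw [hno p] at ha; norm_num at ha
      have hbx : x ≠ b := fun h => by subst h; rw [hno p] at hb; norm_num at hb
      have hnz : ∀ y, K.W F p y ≠ 0 → y ∉ K.zero := fun y hy hyz => hy (hW0 p y hyz)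
      have h3 : ∀ y, y ∉ K.zero → (3 : ℤ) ∣ K.T F p y := fun y hy => by
        have hdy : (3 : ℤ) ∣ K.d y := by by_contra h; exact hy (K.mem_zero.2 h)
        have h := dvd_add (K.T_cong F p y) (hdy.mul_left (F.u p))
        rwa [sub_add_cancel] at h
      obtain ⟨ka, hka⟩ := h3 a (hnz a (by rw [ha]; norm_num))
      obtain ⟨kb, hkb⟩ := h3 b (hnz b (by rw [hb]; norm_num))
      obtain ⟨kx, hkx⟩ := h3 x hx
      have hsum := K.TT F p p
      rw [if_pos rfl, ← sum_add_sum_compl K.zero, K.T_sq_zero F hn hc p, hbig p, h6] at hsum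
      have hsub : ({a, b, x} : Finset ι) ⊆ K.zeroᶜ := by
        intro y hy
        simp only [mem_insert, mem_singleton] at hy
        rw [mem_compl]
        rcases hy with rfl | rfl | rfl
        · exact hnz _ (by rw [ha]; norm_num)
        · exact hnz _ (by rw [hb]; norm_num)
        · exact hx
      have hle := sum_le_sum_of_subset_of_nonneg hsub fun y _ _ => mul_self_nonneg (K.T F p y)
      rw [sum_insert (by simp [hab, hax.symm]), sum_pair hbx.symm] at hle
      have e1 : 1 ≤ ka * ka + kb * kb := by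
        rcases eq_or_ne ka 0 with h | h
        · have : kb ≠ 0 := fun h' => by rw [hka, hkb, h, h'] at hT; norm_num at hT
          nlinarith [mul_self_pos.2 this, mul_self_nonneg ka]
        · nlinarith [mul_self_pos.2 h, mul_self_nonneg kb]
      have e2 : 1 ≤ kx * kx := by
        have : kx ≠ 0 := fun h => hp (by rw [hkx, h, mul_zero])
        nlinarith [mul_self_pos.2 this]
      rw [hka, hkb, hkx] at hle
      push_cast at hsum
      linarith
    rw [sum_eq_single p (fun q _ hq => by
      rw [(K.W_disjoint F hq x).resolve_right hp, mul_zero]) (by simp)]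
    rcases K.W_small F p x with h | h | h
    · exact absurd h hp
    · rw [h]; rfl
    · rw [h]; rfl
  refine ⟨?_, h6⟩
  have h : ∑ x ∈ K.zeroᶜ, ∑ p, K.W F p x * K.W F p x = 2 * n := by
    rw [sum_subset (subset_univ _) (fun x _ hx => sum_eq_zero fun p _ => by
      rw [hW0 p x (by simpa using hx), mul_zero]), sum_comm,
      sum_congr rfl fun p _ => by rw [WW, if_pos rfl]]
    simp [mul_comm]
  rw [sum_congr rfl fun x hx => hex x (mem_compl.1 hx), sum_const, nsmul_eq_mul, mul_one] at h
  have : K.zeroᶜ.card = 2 * n := by exact_mod_cast h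
  rw [← card_add_card_compl K.zero, h6, this]

end Cols

/-- Nine characters below are impossible. -/
theorem no_nine (K : Cols ι 8 1 (fun i j => if i = j then 2 else 1)) : False := by
  set β : ι → ℤ := fun x => ∑ i, K.b i x
  set B : ι → ℤ := fun x => ∑ i, K.b i x * K.b i x
  set Q : ι → ℤ := fun x => 9 * B x - β x * β x
  have hcs : ∀ x, β x * β x ≤ 8 * B x := fun x => by
    have h := sq_sum_le_card_mul_sum_sq (s := (univ : Finset (Fin 8))) (f := fun i => K.b i x)
    simp only [card_univ, Fintype.card_fin, sq] at h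
    exact_mod_cast h
  have hBnn : ∀ x, 0 ≤ B x := fun x => sum_nonneg fun i _ => mul_self_nonneg _
  have hupper : ∀ x, Q x < 18 := by
    intro x
    by_contra hc
    push Not at hc
    set cf : Fin 8 → ℤ := fun i => 9 * K.b i x - β x
    set F : ι → ℤ := fun y => ∑ i, cf i * K.b i y
    have hF0 : F x = Q x := by
      simp only [F, cf, Q, B, β, sub_mul, sum_sub_distrib, mul_assoc, ← mul_sum]
    have hcsum : ∑ i, cf i = β x := by
      simp only [cf, sum_sub_distrib, ← mul_sum, sum_const, card_univ, Fintype.card_fin, nsmul_eq_mul,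
        β]
      push_cast; ring
    have hcsq : ∑ i, cf i * cf i = 81 * B x - 10 * (β x * β x) := by
      calc ∑ i, cf i * cf i = ∑ i, (81 * (K.b i x * K.b i x) - 18 * β x * K.b i x + β x * β x) :=
            sum_congr rfl fun i _ => by simp only [cf]; ring
        _ = _ := by
          rw [sum_add_distrib, sum_sub_distrib, ← mul_sum, ← mul_sum, sum_const, card_univ,
            Fintype.card_fin, nsmul_eq_mul]
          simp only [B, β]
          push_cast; ring
    have hFF : ∑ y, F y * F y = 18 * Q x := by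
      calc ∑ y, F y * F y = ∑ y, ∑ i, ∑ j, cf i * cf j * (K.b i y * K.b j y) := by
            refine sum_congr rfl fun y _ => ?_
            rw [sum_mul_sum]
            exact sum_congr rfl fun i _ => sum_congr rfl fun j _ => by ring
        _ = ∑ i, ∑ j, cf i * cf j * ∑ y, K.b i y * K.b j y := by
            rw [sum_comm]; refine sum_congr rfl fun i _ => ?_
            rw [sum_comm]; exact sum_congr rfl fun j _ => (mul_sum _ _ _).symm
        _ = ∑ i, ∑ j, (2 * (cf i * cf j) + if i = j then 2 * (cf i * cf i) else 0) := by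
            refine sum_congr rfl fun i _ => sum_congr rfl fun j _ => ?_
            rw [K.bb]
            split_ifs with h
            · subst h; ring
            · ring
        _ = _ := by
            simp only [sum_add_distrib, sum_ite_eq, mem_univ, if_true, ← mul_sum, hcsq, ← sum_mul,
              hcsum, Q]
            ring
    have hFd : ∑ y, F y * K.d y = 0 := by
      simp only [F, sum_mul]
      rw [sum_comm]
      refine sum_eq_zero fun i _ => ?_
      simp only [mul_assoc, ← mul_sum, K.bd, mul_zero]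
    have hsplit := add_sum_erase univ (fun y => F y * F y) (mem_univ x)
    rw [hFF, hF0] at hsplit
    have hnn : 0 ≤ ∑ y ∈ univ.erase x, F y * F y := sum_nonneg fun y _ => mul_self_nonneg _
    have h0 : ∑ y ∈ univ.erase x, F y * F y = 0 := by nlinarith
    have hz := (sum_eq_zero_iff_of_nonneg fun y _ => mul_self_nonneg (F y)).1 h0
    rw [← add_sum_erase univ (fun y => F y * K.d y) (mem_univ x),
      sum_eq_zero fun y hy => by rw [mul_self_eq_zero.1 (hz y hy), zero_mul], add_zero, hF0] at hFd
    have := K.d_pos x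
    nlinarith
  have hQ0 : ∀ x, Q x = 0 := by
    intro x
    obtain ⟨g, hg⟩ := K.b_cong x
    have hg' : β x = 3 * g := hg
    have hlo : B x ≤ Q x := by have := hcs x; simp only [Q]; linarith
    have hQ9 : Q x = 9 * (B x - g * g) := by simp only [Q, hg']; ring
    have hne : B x - g * g ≠ 1 := by
      intro h1
      have hg2 : g * g ≤ 8 := by have := hcs x; rw [hg'] at this; linarith
      have habs : |β x| ≤ B x := (abs_sum_le_sum_abs _ _).trans
        (sum_le_sum fun i _ => Int.abs_eq_natAbs (K.b i x) ▸ by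
          rw [← Int.natAbs_mul_self' (K.b i x)]
          exact_mod_cast Nat.le_mul_self _)
      have hpar : (2 : ℤ) ∣ B x - β x := by
        rw [show B x - β x = ∑ i, (K.b i x * (K.b i x - 1)) by
          simp only [B, β, ← sum_sub_distrib]; exact sum_congr rfl fun i _ => by ring]
        refine dvd_sum fun i _ => ?_
        rcases Int.emod_two_eq_zero_or_one (K.b i x) with h | h
        · exact (Int.dvd_of_emod_eq_zero h).mul_right _
        · exact (Int.dvd_of_emod_eq_zero (by omega)).mul_left _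
      have hgb : -2 ≤ g ∧ g ≤ 2 := ⟨by nlinarith, by nlinarith⟩
      obtain ⟨h2, h3⟩ := hgb
      interval_cases g <;> simp [hg'] at habs hpar h1 <;> omega
    have := hupper x
    have := hBnn x
    omega
  have htot : ∑ x, Q x = 144 := by
    have hB : ∑ x, B x = 32 := by
      simp only [B]; rw [sum_comm, sum_congr rfl fun i _ => K.bb i i]
      simp
    have hβ : ∑ x, β x * β x = 144 := by
      simp only [β, sum_mul_sum]
      rw [sum_comm, sum_congr rfl fun i _ => (sum_comm).trans (sum_congr rfl fun j _ => K.bb i j)]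
      decide +kernel
    simp only [Q, sum_sub_distrib, ← mul_sum, hB, hβ]
    norm_num
  rw [sum_eq_zero fun x _ => hQ0 x] at htot
  norm_num at htot

end CfsgLib.ExtraThree
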