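import Cfsg.Agent.Solvable.NormalizerComplement
import Cfsg.Agent.Transfer.Basic
import Cfsg.Agent.Transfer.PResidual
import Cfsg.Prelude.Def_Transfer
import Mathlib

/-!
# Fusion with an extraspecial Sylow subgroup of order `27` and centralized centre
-/

set_option autoImplicit false
set_option linter.unusedSectionVars false
set_option linter.style.haveILetI false

namespace CfsgLib.ExtraThree

open Subgroup
open scoped Classical

universe w

/-- The standing hypothesis. -/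
structure Setting {G : Type w} [Group G] [Finite G] (P : Sylow 3 G) (z : G) : Prop where
  z_mem : z ∈ P
  z_ord : orderOf z = 3
  z_comm : ∀ y ∈ P, z * y = y * z
  central : ∀ x ∈ P, (∀ y ∈ P, x * y = y * x) → ∃ i : ℕ, x = z ^ i
  card : Nat.card (P : Subgroup G) = 27
  exp : ∀ x ∈ P, x ^ 3 = 1
  comm : ∀ x ∈ P, ∀ y ∈ P, ∃ i : ℕ, x * y * x⁻¹ = y * z ^ i
  fix : ∀ g ∈ normalizer ((P : Subgroup G) : Set G), g * z * g⁻¹ = z

variable {G : Type w} [Group G] [Finite G] {P : Sylow 3 G} {z : G}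

/-- The noncentral elements of the Sylow subgroup. -/
def NC (P : Sylow 3 G) (z : G) : Set G := {u | u ∈ P ∧ ∀ i : ℕ, u ≠ z ^ i}

/-- The conjugate of `u` lies in the coset `u Z`. -/
def Near (z u g : G) : Prop := ∃ i : ℕ, g * u * g⁻¹ = u * z ^ i

/-- The stabilizer of `u Z` in the centralizer of `z`. -/
def nearStab (z u : G) (hzu : z * u = u * z) : Subgroup G where
  carrier := {g | g * z = z * g ∧ Near z u g}
  one_mem' := ⟨by simp, 0, by simp⟩
  mul_mem' := by
    rintro a b ⟨ha, i, hai⟩ ⟨hb, j, hbj⟩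
    refine ⟨by rw [mul_assoc, hb, ← mul_assoc, ha, mul_assoc], i + j, ?_⟩
    have haz : a * z ^ j * a⁻¹ = z ^ j := by
      rw [(show Commute a (z ^ j) from (show Commute a z from ha).pow_right j).eq,
        mul_inv_cancel_right]
    calc a * b * u * (a * b)⁻¹ = a * (b * u * b⁻¹) * a⁻¹ := by group
      _ = (a * u * a⁻¹) * (a * z ^ j * a⁻¹) := by rw [hbj]; group
      _ = u * z ^ (i + j) := by rw [hai, haz, pow_add, mul_assoc]
  inv_mem' := by
    rintro a ⟨ha, i, hai⟩
    have hza : Commute a z := ha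
    refine ⟨hza.inv_left.eq, (orderOf z - 1) * i, ?_⟩
    rcases (orderOf z).eq_zero_or_pos with ho | ho
    · exact absurd ho (fun h => by
        have := orderOf_eq_zero_iff.1 h
        exact this (isOfFinOrder_of_finite z))
    · have hz : z ^ ((orderOf z - 1) * i) = (z ^ i)⁻¹ := by
        refine eq_inv_of_mul_eq_one_left ?_
        rw [← pow_add, show (orderOf z - 1) * i + i = orderOf z * i by
          obtain ⟨o, ho'⟩ : ∃ o, orderOf z = o + 1 := ⟨orderOf z - 1, by omega⟩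
          rw [ho', Nat.add_sub_cancel]; ring, pow_mul, pow_orderOf_eq_one, one_pow]
      have hc : Commute a⁻¹ (z ^ i) := hza.inv_left.pow_right i
      have hu : u = a⁻¹ * u * a * z ^ i := by
        calc u = a⁻¹ * (a * u * a⁻¹) * a := by group
          _ = a⁻¹ * u * (z ^ i * a) := by rw [hai]; group
          _ = _ := by rw [(hza.pow_right i).symm.eq]; group
      rw [inv_inv, hz, eq_mul_inv_iff_mul_eq]
      exact hu.symm

theorem mem_nearStab {u g : G} {hzu : z * u = u * z} :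
    g ∈ nearStab z u hzu ↔ g * z = z * g ∧ Near z u g := Iff.rfl

/-- Sylow subgroups inside a subgroup are conjugate there. -/
theorem sylow_conj_in {p : ℕ} [Fact p.Prime] (Q R : Sylow p G) (H : Subgroup G)
    (hQ : (Q : Subgroup G) ≤ H) (hR : (R : Subgroup G) ≤ H) : ∃ m ∈ H, m • Q = R := by
  obtain ⟨m, hm⟩ := MulAction.exists_smul_eq H (Q.subtype hQ) (R.subtype hR)
  refine ⟨m, m.2, Sylow.ext ?_⟩
  ext y
  by_cases hy : y ∈ H
  · have h := SetLike.ext_iff.1 (congrArg Sylow.toSubgroup hm) ⟨y, hy⟩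
    simp only [Sylow.coe_subgroup_smul, CfsgLib.SZ.mem_conj_smul] at h ⊢
    simpa [Sylow.coe_subtype, mem_subgroupOf] using h
  · refine iff_of_false (fun h => hy ?_) (fun h => hy (hR h))
    rw [Sylow.coe_subgroup_smul, CfsgLib.SZ.mem_conj_smul] at h
    have := H.mul_mem (H.mul_mem m.2 (hQ h)) (H.inv_mem m.2)
    simpa [mul_assoc] using this

/-- A normal `p`-subgroup lies in every Sylow subgroup. -/
theorem le_sylow {p : ℕ} [Fact p.Prime] {K : Type*} [Group K] [Finite K] {N : Subgroup K} [N.Normal]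
    (hN : IsPGroup p N) (T : Sylow p K) : N ≤ T := by
  obtain ⟨T', hT'⟩ := hN.exists_le_sylow
  obtain ⟨k, hk⟩ := MulAction.exists_smul_eq K T' T
  rw [← hk, Sylow.coe_subgroup_smul]
  intro a ha
  rw [CfsgLib.SZ.mem_conj_smul]
  refine hT' ?_
  simpa [mul_assoc] using (inferInstance : N.Normal).conj_mem a ha k⁻¹

namespace Setting

variable (S : Setting P z)

include S in
theorem z3 : z ^ 3 = 1 := S.z_ord ▸ pow_orderOf_eq_one z

include S in
theorem z_ne : z ≠ 1 := fun h => by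
  have := S.z_ord; rw [h, orderOf_one] at this; norm_num at this

include S in
theorem z_pow_eq {i : ℕ} : z ^ i = 1 ↔ 3 ∣ i := by rw [← orderOf_dvd_iff_pow_eq_one, S.z_ord]

include S in
theorem z_pow_cases (i : ℕ) : z ^ i = 1 ∨ z ^ i = z ∨ z ^ i = z⁻¹ := by
  rw [← pow_mod_orderOf z i, S.z_ord]
  have : i % 3 = 0 ∨ i % 3 = 1 ∨ i % 3 = 2 := by omega
  rcases this with h | h | h <;> rw [h]
  · exact Or.inl (pow_zero z)
  · exact Or.inr (Or.inl (pow_one z))
  · exact Or.inr (Or.inr (eq_inv_of_mul_eq_one_left (by rw [← pow_succ, S.z3])))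

include S in
theorem z_inv_ne : z⁻¹ ≠ z := fun h => by
  have h2 : z ^ 2 = 1 := by rw [pow_two]; exact inv_eq_iff_mul_eq_one.1 h
  have := S.z_pow_eq.1 h2
  omega

include S in
theorem ord {u : G} (hu : u ∈ NC P z) : orderOf u = 3 :=
  orderOf_eq_prime (S.exp u hu.1) fun h => hu.2 0 (by rw [h, pow_zero])

include S in
theorem exists_move {u : G} (hu : u ∈ NC P z) : ∃ w ∈ P, w * u * w⁻¹ = u * z := by
  obtain ⟨y, hy, hne⟩ : ∃ y ∈ P, u * y ≠ y * u := by
    by_contra h
    push Not at h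
    obtain ⟨i, hi⟩ := S.central u hu.1 h
    exact hu.2 i hi
  obtain ⟨i, hi⟩ := S.comm y hy u hu.1
  rcases S.z_pow_cases i with h | h | h
  · rw [h, mul_one, mul_inv_eq_iff_eq_mul] at hi
    exact absurd hi.symm hne
  · exact ⟨y, hy, by rw [hi, h]⟩
  · refine ⟨y⁻¹, inv_mem hy, ?_⟩
    rw [h] at hi
    have hyz : y⁻¹ * z * y = z := by rw [mul_assoc, S.z_comm y hy, inv_mul_cancel_left]
    calc y⁻¹ * u * y⁻¹⁻¹ = y⁻¹ * (u * z⁻¹ * z) * y := by group
      _ = y⁻¹ * (y * u * y⁻¹ * z) * y := by rw [hi]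
      _ = u * (y⁻¹ * z * y) := by group
      _ = u * z := by rw [hyz]

include S in
theorem le_nearStab {u : G} (hu : u ∈ P) :
    (P : Subgroup G) ≤ nearStab z u (S.z_comm u hu) := fun g hg =>
  ⟨(S.z_comm g hg).symm, S.comm g hg u hu⟩

include S in
/-- The Frattini argument inside the stabilizer of `u Z`. -/
theorem frattini {u : G} (hu : u ∈ P) {g : G}
    (h : ∀ x ∈ P, g * x * g⁻¹ ∈ nearStab z u (S.z_comm u hu)) :
    ∃ m ∈ nearStab z u (S.z_comm u hu), m * g ∈ normalizer ((P : Subgroup G) : Set G) := by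
  haveI : Fact (Nat.Prime 3) := ⟨Nat.prime_three⟩
  have h1 : ((g • P : Sylow 3 G) : Subgroup G) ≤ nearStab z u (S.z_comm u hu) := by
    rw [Sylow.coe_subgroup_smul]
    rintro _ ⟨x, hx, rfl⟩
    simpa using h x hx
  obtain ⟨m, hm, hmP⟩ := sylow_conj_in (g • P) P _ h1 (S.le_nearStab hu)
  refine ⟨m, hm, ?_⟩
  refine Sylow.smul_eq_iff_mem_normalizer.1 ?_
  rw [mul_smul, hmP]

include S in
/-- The centre is weakly closed. -/
theorem weakly_closed {g : G} (hg : g * z * g⁻¹ ∈ P) : g * z * g⁻¹ = z := by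
  haveI : Fact (Nat.Prime 3) := ⟨Nat.prime_three⟩
  set x := g * z * g⁻¹ with hx
  have hgP : ((g • P : Sylow 3 G) : Subgroup G) ≤ centralizer ({x} : Set G) := by
    rw [Sylow.coe_subgroup_smul]
    rintro _ ⟨y, hy, rfl⟩
    rw [mem_centralizer_singleton_iff]
    show g * y * g⁻¹ * x = x * (g * y * g⁻¹)
    calc g * y * g⁻¹ * x = g * (y * z) * g⁻¹ := by rw [hx]; group
      _ = g * (z * y) * g⁻¹ := by rw [S.z_comm y hy]
      _ = _ := by rw [hx]; group
  by_cases hc : ∀ y ∈ P, x * y = y * x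
  · have hP : (P : Subgroup G) ≤ centralizer ({x} : Set G) := fun y hy =>
      mem_centralizer_singleton_iff.2 (hc y hy).symm
    obtain ⟨c, hc', hcc⟩ := sylow_conj_in (g • P) P _ hgP hP
    have hn : c * g ∈ normalizer ((P : Subgroup G) : Set G) := by
      refine Sylow.smul_eq_iff_mem_normalizer.1 ?_
      rw [mul_smul, hcc]
    have h := S.fix _ hn
    have hcx : c * x * c⁻¹ = x := by
      rw [mem_centralizer_singleton_iff.1 hc', mul_inv_cancel_right]
    rw [← hcx]
    calc c * x * c⁻¹ = c * g * z * (c * g)⁻¹ := by rw [hx]; group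
      _ = z := h
  exfalso
  have hxNC : x ∈ NC P z := ⟨hg, fun i hi => hc fun y hy => by
    rw [hi]; exact ((show Commute z y from S.z_comm y hy).pow_left i).eq⟩
  have hx3 := S.exp x hg
  -- a conjugate of `P` through `x` centrally, containing `z`
  have hzp : IsPGroup 3 (zpowers z) := IsPGroup.of_card (n := 1) (by rw [Nat.card_zpowers, S.z_ord, pow_one])
  have hzle : zpowers z ≤ centralizer ({x} : Set G) :=
    zpowers_le.2 (mem_centralizer_singleton_iff.2 (S.z_comm x hg))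
  obtain ⟨T, hT⟩ := (hzp.comap_subtype (K := centralizer ({x} : Set G))).exists_le_sylow
  obtain ⟨c, hcT⟩ := MulAction.exists_smul_eq (centralizer ({x} : Set G)) ((g • P).subtype hgP) T
  set h := (c : G) * g with hh
  have hzh : h⁻¹ * z * h ∈ P := by
    have h1 : (⟨z, hzle (mem_zpowers z)⟩ : centralizer ({x} : Set G)) ∈ (T : Subgroup _) :=
      hT (mem_comap.2 (mem_zpowers z))
    rw [← hcT, Sylow.coe_subgroup_smul] at h1
    obtain ⟨w, hw, he⟩ := h1
    have he' : (c : G) * (w : G) * (c : G)⁻¹ = z := by simpa using congrArg Subtype.val he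
    have hw' : (w : G) ∈ ((g • P : Sylow 3 G) : Subgroup G) := hw
    rw [Sylow.coe_subgroup_smul] at hw'
    obtain ⟨v, hv, hvw⟩ := hw'
    have hvw' : g * v * g⁻¹ = (w : G) := by simpa using hvw
    have : h⁻¹ * z * h = v := by rw [← he', ← hvw', hh]; group
    rw [this]; exact hv
  have hhz : h * z * h⁻¹ = x := by
    calc h * z * h⁻¹ = (c : G) * (g * z * g⁻¹) * (c : G)⁻¹ := by rw [hh]; group
      _ = (c : G) * x * (c : G)⁻¹ := rfl
      _ = x := by rw [mem_centralizer_singleton_iff.1 c.2, mul_inv_cancel_right]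
  set y := h⁻¹ * z * h with hy
  have hyNC : y ∈ NC P z := ⟨hzh, fun i hi => by
    have e : z = x ^ i := by
      calc z = h * y * h⁻¹ := by rw [hy]; group
        _ = _ := by rw [hi, ← conj_pow, hhz]
    rw [← pow_mod_orderOf x i, orderOf_eq_prime hx3 fun h1 => hxNC.2 0 (by rw [h1, pow_zero])] at e
    have : i % 3 = 0 ∨ i % 3 = 1 ∨ i % 3 = 2 := by omega
    rcases this with hr | hr | hr <;> rw [hr] at e
    · exact S.z_ne (by rw [e, pow_zero])
    · exact hxNC.2 1 (by rw [pow_one] at e ⊢; exact e.symm)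
    · refine hxNC.2 2 ?_
      rw [e, ← pow_mul, show 2 * 2 = 3 + 1 from rfl, pow_add, hx3, one_mul, pow_one]⟩
  obtain ⟨w, hw, hwx⟩ := S.exists_move hxNC
  obtain ⟨r', hr', hry⟩ := S.exists_move hyNC
  set r := h * r' * h⁻¹ with hr
  have hrx : r * x * r⁻¹ = x := by
    calc r * x * r⁻¹ = h * (r' * z * r'⁻¹) * h⁻¹ := by rw [hr, ← hhz]; group
      _ = x := by rw [← S.z_comm r' hr', mul_inv_cancel_right, hhz]
  have hrz : r * z * r⁻¹ = z * x := by
    calc r * z * r⁻¹ = h * (r' * y * r'⁻¹) * h⁻¹ := by rw [hr, hy]; group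
      _ = (h * y * h⁻¹) * (h * z * h⁻¹) := by rw [hry]; group
      _ = z * x := by rw [hhz, hy]; group
  have hwz : w⁻¹ * z * w = z := by rw [mul_assoc, S.z_comm w hw, inv_mul_cancel_left]
  have hwx' : w⁻¹ * x * w = x * z⁻¹ := by
    have : w⁻¹ * (x * z) * w = x := by rw [← hwx]; group
    calc w⁻¹ * x * w = w⁻¹ * (x * z) * w * (w⁻¹ * z * w)⁻¹ := by group
      _ = x * z⁻¹ := by rw [this, hwz]
  have hzx : Commute z x := S.z_comm x hg
  set s := r * w⁻¹ * r with hs
  have hsz : s * z * s⁻¹ = x := by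
    calc s * z * s⁻¹ = r * (w⁻¹ * (r * z * r⁻¹) * w) * r⁻¹ := by rw [hs]; group
      _ = r * ((w⁻¹ * z * w) * (w⁻¹ * x * w)) * r⁻¹ := by rw [hrz]; group
      _ = r * x * r⁻¹ := by
        rw [hwz, hwx', ← mul_assoc z x, hzx.eq, mul_assoc x z, mul_inv_cancel, mul_one]
      _ = x := hrx
  have hsx : s * x * s⁻¹ = z⁻¹ := by
    calc s * x * s⁻¹ = r * (w⁻¹ * (r * x * r⁻¹) * w) * r⁻¹ := by rw [hs]; group
      _ = r * (w⁻¹ * x * w) * r⁻¹ := by rw [hrx]
      _ = (r * x * r⁻¹) * (r * z * r⁻¹)⁻¹ := by rw [hwx']; group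
      _ = z⁻¹ := by rw [hrx, hrz, _root_.mul_inv_rev, mul_inv_cancel_left]
  set n := s * s with hn
  have hnz : n * z * n⁻¹ = z⁻¹ := by
    calc n * z * n⁻¹ = s * (s * z * s⁻¹) * s⁻¹ := by rw [hn]; group
      _ = z⁻¹ := by rw [hsz, hsx]
  have hnx : n * x * n⁻¹ = x⁻¹ := by
    calc n * x * n⁻¹ = s * (s * x * s⁻¹) * s⁻¹ := by rw [hn]; group
      _ = (s * z * s⁻¹)⁻¹ := by rw [hsx]; group
      _ = x⁻¹ := by rw [hsz]
  have hnz' : n⁻¹ * z * n = z⁻¹ := by
    calc n⁻¹ * z * n = (n⁻¹ * z⁻¹ * n)⁻¹ := by group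
      _ = (n⁻¹ * (n * z * n⁻¹) * n)⁻¹ := by rw [hnz]
      _ = z⁻¹ := by group
  have hnx' : n⁻¹ * x * n = x⁻¹ := by
    calc n⁻¹ * x * n = (n⁻¹ * x⁻¹ * n)⁻¹ := by group
      _ = (n⁻¹ * (n * x * n⁻¹) * n)⁻¹ := by rw [hnx]
      _ = x⁻¹ := by group
  obtain ⟨m, hm, hmn⟩ := S.frattini hg (g := n) fun p hp => by
    obtain ⟨hp1, i, hpi⟩ := S.le_nearStab hg hp
    refine ⟨?_, i, ?_⟩
    · have : Commute p z⁻¹ := (show Commute p z from hp1).inv_right
      calc n * p * n⁻¹ * z = n * (p * (n⁻¹ * z * n)) * n⁻¹ := by group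
        _ = n * ((n⁻¹ * z * n) * p) * n⁻¹ := by rw [hnz', this.eq]
        _ = _ := by group
    · calc n * p * n⁻¹ * x * (n * p * n⁻¹)⁻¹ = n * (p * (n⁻¹ * x * n) * p⁻¹) * n⁻¹ := by group
        _ = n * (p * x * p⁻¹)⁻¹ * n⁻¹ := by rw [hnx']; group
        _ = (n * (x * z ^ i) * n⁻¹)⁻¹ := by rw [hpi]; group
        _ = ((n * x * n⁻¹) * (n * z * n⁻¹) ^ i)⁻¹ := by rw [conj_pow]; group
        _ = (x⁻¹ * (z ^ i)⁻¹)⁻¹ := by rw [hnx, hnz, inv_pow]
        _ = x * z ^ i := by rw [_root_.mul_inv_rev, inv_inv, inv_inv, (hzx.pow_left i).eq]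
  have h2 := S.fix _ hmn
  rw [show m * n * z * (m * n)⁻¹ = m * (n * z * n⁻¹) * m⁻¹ by group, hnz,
    ← conj_inv, show m * z * m⁻¹ = z from by rw [hm.1, mul_inv_cancel_right]] at h2
  exact S.z_inv_ne h2

include S in
theorem move_pow {u : G} (hu : u ∈ NC P z) (i : ℕ) : ∃ w ∈ P, w * u * w⁻¹ = u * z ^ i := by
  obtain ⟨w, hw, hwu⟩ := S.exists_move hu
  induction i with
  | zero => exact ⟨1, one_mem _, by simp⟩
  | succ i ih =>
    obtain ⟨w', hw', he⟩ := ih
    refine ⟨w * w', mul_mem hw hw', ?_⟩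
    have hwz : w * z ^ i * w⁻¹ = z ^ i := by
      rw [((show Commute w z from (S.z_comm w hw).symm).pow_right i).eq, mul_inv_cancel_right]
    calc w * w' * u * (w * w')⁻¹ = w * (w' * u * w'⁻¹) * w⁻¹ := by group
      _ = (w * u * w⁻¹) * (w * z ^ i * w⁻¹) := by rw [he]; group
      _ = u * z ^ (i + 1) := by rw [hwu, hwz, pow_succ', mul_assoc]

include S in
theorem nc_mul {u : G} (hu : u ∈ NC P z) (i : ℕ) : u * z ^ i ∈ NC P z := by
  refine ⟨mul_mem hu.1 (pow_mem S.z_mem i), fun j hj => hu.2 (j + 2 * i) ?_⟩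
  have h3 : z ^ (3 * i) = 1 := by rw [pow_mul, S.z3, one_pow]
  calc u = u * z ^ (3 * i) := by rw [h3, mul_one]
    _ = (u * z ^ i) * z ^ (2 * i) := by rw [mul_assoc, ← pow_add]; congr 2; ring
    _ = _ := by rw [hj, pow_add]

include S in
theorem card_zpowers_z : Nat.card (zpowers z) = 3 := by rw [Nat.card_zpowers, S.z_ord]

include S in
theorem card_cent_inf {u : G} (hu : u ∈ NC P z) :
    Nat.card ((P : Subgroup G) ⊓ centralizer ({u} : Set G) : Subgroup G) = 9 := by
  set A := (P : Subgroup G) ⊓ centralizer ({u} : Set G)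
  have hd : Nat.card A ∣ 27 := S.card ▸ card_dvd_of_le inf_le_left
  have hzA : zpowers z ≤ A := zpowers_le.2
    (mem_inf.2 ⟨S.z_mem, mem_centralizer_singleton_iff.2 (S.z_comm u hu.1)⟩)
  have h3 : Nat.card A ≠ 3 := fun h => by
    have he := eq_of_le_of_card_ge hzA (by rw [S.card_zpowers_z, h])
    have : u ∈ zpowers z := he ▸ mem_inf.2 ⟨hu.1, mem_centralizer_singleton_iff.2 rfl⟩
    obtain ⟨i, -, hi⟩ := mem_zpowers_iff_mem_range_orderOf.1 this |> Finset.mem_image.1
    exact hu.2 i hi.symm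
  have h27 : Nat.card A ≠ 27 := fun h => by
    obtain ⟨i, hi⟩ := S.central u hu.1 fun y hy => by
      have e : A = (P : Subgroup G) := eq_of_le_of_card_ge inf_le_left (by rw [S.card, h])
      have : y ∈ A := by rw [e]; exact hy
      exact (mem_centralizer_singleton_iff.1 (mem_inf.1 this).2).symm
    exact hu.2 i hi
  have hge : 3 ∣ Nat.card A := S.card_zpowers_z ▸ card_dvd_of_le hzA
  have hle : Nat.card A ≤ 27 := Nat.le_of_dvd (by norm_num) hd
  interval_cases h : Nat.card A <;> omega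

include S in
theorem mem_cent_inf {u : G} (hu : u ∈ NC P z) {a : G} (ha : a ∈ P) (hau : a * u = u * a) :
    ∃ i j : ℕ, a = u ^ i * z ^ j := by
  set A := (P : Subgroup G) ⊓ centralizer ({u} : Set G)
  have hcomm : Commute z u := S.z_comm u hu.1
  let f : Fin 3 × Fin 3 → A := fun q => ⟨u ^ (q.1 : ℕ) * z ^ (q.2 : ℕ), mem_inf.2
    ⟨mul_mem (pow_mem hu.1 _) (pow_mem S.z_mem _), mem_centralizer_singleton_iff.2
      (((Commute.refl u).pow_left _).mul_left (hcomm.pow_left _)).eq⟩⟩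
  have hf : Function.Injective f := by
    rintro ⟨i, j⟩ ⟨i', j'⟩ h
    have h' : u ^ (i : ℕ) * z ^ (j : ℕ) = u ^ (i' : ℕ) * z ^ (j' : ℕ) := congrArg Subtype.val h
    have hi : i = i' := by
      by_contra hne
      obtain ⟨d, hd, hd3⟩ : ∃ d, ((i : ℕ) + d) % 3 = 1 ∧ ((i' : ℕ) + d) % 3 = 0 ∨
          ((i' : ℕ) + d) % 3 = 1 ∧ ((i : ℕ) + d) % 3 = 0 := by
        have := i.isLt; have := i'.isLt; have := Fin.val_ne_of_ne hne
        by_cases h1 : ((i : ℕ) + (3 - (i' : ℕ))) % 3 = 1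
        · exact ⟨3 - i', Or.inl ⟨h1, by omega⟩⟩
        · exact ⟨3 - i, Or.inr ⟨by omega, by omega⟩⟩
      · have he := congrArg (u ^ d * ·) h'
        simp only [← mul_assoc, ← pow_add, add_comm d] at he
        rw [← pow_mod_orderOf u ((i : ℕ) + d), ← pow_mod_orderOf u ((i' : ℕ) + d), S.ord hu, hd, hd3,
          pow_one, pow_zero, one_mul] at he
        refine hu.2 ((j' : ℕ) + 2 * (j : ℕ)) ?_
        rw [pow_add, ← he, mul_assoc, ← pow_add, show (j : ℕ) + 2 * j = 3 * j by ring, pow_mul,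
          S.z3, one_pow, mul_one]
      · rename_i hd'
        have he := congrArg (u ^ d * ·) h'
        simp only [← mul_assoc, ← pow_add, add_comm d] at he
        rw [← pow_mod_orderOf u ((i : ℕ) + d), ← pow_mod_orderOf u ((i' : ℕ) + d), S.ord hu, hd'.1,
          hd'.2, pow_one, pow_zero, one_mul] at he
        refine hu.2 ((j : ℕ) + 2 * (j' : ℕ)) ?_
        rw [pow_add, he, mul_assoc, ← pow_add, show (j' : ℕ) + 2 * j' = 3 * j' by ring, pow_mul,
          S.z3, one_pow, mul_one]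
    subst hi
    have := pow_inj_mod.1 (mul_left_cancel h')
    rw [S.z_ord] at this
    have := j.isLt; have := j'.isLt
    exact Prod.ext rfl (Fin.ext (by simp only at this ⊢; omega))
  haveI := Fintype.ofFinite A
  have hbij : Function.Bijective f := (Fintype.bijective_iff_injective_and_card f).2 ⟨hf, by
    rw [← Nat.card_eq_fintype_card (α := A), S.card_cent_inf hu]; rfl⟩
  obtain ⟨⟨i, j⟩, hij⟩ := hbij.2 ⟨a, mem_inf.2 ⟨ha, mem_centralizer_singleton_iff.2 hau⟩⟩
  exact ⟨i, j, (congrArg Subtype.val hij).symm⟩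

include S in
/-- Every element is `w^j u^i z^k`. -/
theorem decompose {u w : G} (hu : u ∈ NC P z) (hw : w ∈ P) (hwu : w * u * w⁻¹ = u * z) {a : G}
    (ha : a ∈ P) : ∃ i j k : ℕ, a = w ^ j * (u ^ i * z ^ k) := by
  obtain ⟨j, hj⟩ := S.comm a ha u hu.1
  have hcw : ∀ m : ℕ, w ^ m * u * (w ^ m)⁻¹ = u * z ^ m := fun m => by
    induction m with
    | zero => simp
    | succ m ih =>
      have hwz : w * z ^ m * w⁻¹ = z ^ m := by
        rw [((show Commute w z from (S.z_comm w hw).symm).pow_right m).eq, mul_inv_cancel_right]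
      calc w ^ (m + 1) * u * (w ^ (m + 1))⁻¹ = w * (w ^ m * u * (w ^ m)⁻¹) * w⁻¹ := by
            rw [pow_succ']; group
        _ = (w * u * w⁻¹) * (w * z ^ m * w⁻¹) := by rw [ih]; group
        _ = u * z ^ (m + 1) := by rw [hwu, hwz, pow_succ', mul_assoc]
  have hb : (w ^ j)⁻¹ * a * u = u * ((w ^ j)⁻¹ * a) := by
    calc (w ^ j)⁻¹ * a * u = (w ^ j)⁻¹ * (a * u * a⁻¹) * a := by group
      _ = (w ^ j)⁻¹ * (w ^ j * u * (w ^ j)⁻¹) * a := by rw [hj, hcw]
      _ = u * ((w ^ j)⁻¹ * a) := by group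
  obtain ⟨i, k, hik⟩ := S.mem_cent_inf hu (mul_mem (inv_mem (pow_mem hw j)) ha) hb
  exact ⟨i, j, k, by rw [← hik, mul_inv_cancel_left]⟩

include S in
/-- The index three part of a centralizer. -/
theorem factorization_centralizer {u : G} (hu : u ∈ NC P z) :
    (Nat.card (centralizer ({u} : Set G))).factorization 3 = 2 := by
  haveI : Fact (Nat.Prime 3) := ⟨Nat.prime_three⟩
  set C := centralizer ({u} : Set G)
  have h9 : 3 ^ 2 ∣ Nat.card C := by
    rw [show 3 ^ 2 = 9 from rfl, ← S.card_cent_inf hu]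
    exact card_dvd_of_le inf_le_right
  have hG : (Nat.card G).factorization 3 = 3 := by
    have h := P.card_eq_multiplicity
    rw [S.card, show 27 = 3 ^ 3 from rfl] at h
    exact (Nat.pow_right_injective (le_refl 2 |>.trans (by norm_num)) h).symm
  have h1 : 2 ≤ (Nat.card C).factorization 3 :=
    (Nat.prime_three.pow_dvd_iff_le_factorization Nat.card_pos.ne').1 h9
  have h2 : (Nat.card C).factorization 3 ≤ 3 :=
    ((Nat.factorization_le_iff_dvd Nat.card_pos.ne' Nat.card_pos.ne').2 C.card_subgroup_dvd_card 3).trans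
      hG.le
  rcases (show (Nat.card C).factorization 3 = 2 ∨ (Nat.card C).factorization 3 = 3 by omega)
    with h | h
  · exact h
  exfalso
  obtain ⟨T⟩ : Nonempty (Sylow 3 C) := inferInstance
  obtain ⟨T', hT'⟩ := (T.2.map C.subtype).exists_le_sylow
  obtain ⟨k, hk⟩ := MulAction.exists_smul_eq G P T'
  have hT : (T : Subgroup C).map C.subtype = T' := eq_of_le_of_card_ge hT' (by
    rw [T'.card_eq_multiplicity, card_map_of_injective C.subtype_injective, T.card_eq_multiplicity,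
      h, hG])
  have hPk : ∀ x ∈ P, k * x * k⁻¹ * u = u * (k * x * k⁻¹) := fun x hx => by
    have : k * x * k⁻¹ ∈ (T : Subgroup C).map C.subtype := by
      rw [hT, ← hk, Sylow.coe_subgroup_smul, CfsgLib.SZ.mem_conj_smul]
      have hx' : x ∈ (P : Subgroup G) := hx
      simpa [mul_assoc] using hx'
    obtain ⟨c, -, hc⟩ := this
    rw [← hc]
    exact mem_centralizer_singleton_iff.1 c.2
  -- `k⁻¹ u k` is central in `P`
  set v := k⁻¹ * u * k with hv
  have hvc : ∀ y ∈ P, v * y = y * v := fun y hy => by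
    calc v * y = k⁻¹ * (u * (k * y * k⁻¹)) * k := by rw [hv]; group
      _ = k⁻¹ * ((k * y * k⁻¹) * u) * k := by rw [hPk y hy]
      _ = _ := by rw [hv]; group
  have hvP : v ∈ P := by
    have huC : u ∈ T' := by
      rw [← SetLike.mem_coe]
      have hz' : (⟨u, mem_centralizer_singleton_iff.2 rfl⟩ : C) ∈ (T : Subgroup C) := by
        have hzu : IsPGroup 3 (zpowers (⟨u, mem_centralizer_singleton_iff.2 rfl⟩ : C)) :=
          IsPGroup.of_card (n := 1) (by rw [Nat.card_zpowers, orderOf_mk, S.ord hu, pow_one])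
        haveI : (zpowers (⟨u, mem_centralizer_singleton_iff.2 rfl⟩ : C)).Normal :=
          ⟨fun a ha g => by
            obtain ⟨i, rfl⟩ := ha
            have : Commute g (⟨u, mem_centralizer_singleton_iff.2 rfl⟩ : C) :=
              Subtype.ext (mem_centralizer_singleton_iff.1 g.2)
            rw [show (fun x => _ ^ x) i = _ from rfl, (this.zpow_right i).eq, mul_inv_cancel_right]
            exact ⟨i, rfl⟩⟩
        exact CfsgLib.ExtraThree.le_sylow hzu T (mem_zpowers _)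
      have := mem_map_of_mem C.subtype hz'
      rw [hT] at this
      exact this
    have h' : u ∈ (T' : Subgroup G) := huC
    rw [← hk, Sylow.coe_subgroup_smul, CfsgLib.SZ.mem_conj_smul] at h'
    exact h'
  obtain ⟨i, hi⟩ := S.central v hvP hvc
  rcases S.z_pow_cases i with hc | hc | hc <;> rw [hc] at hi
  · rw [hv, show k⁻¹ * u * k = k⁻¹ * u * k⁻¹⁻¹ by rw [inv_inv], conj_eq_one_iff] at hi
    exact hu.2 0 (by rw [hi, pow_zero])
  · have h' : k * z * k⁻¹ = u := by rw [← hi, hv]; group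
    have := S.weakly_closed (g := k) (h' ▸ hu.1)
    exact hu.2 1 (by rw [pow_one, ← h', this])
  · have h' : k * z * k⁻¹ = u⁻¹ := by
      rw [show z = v⁻¹ by rw [hi, inv_inv], hv]; group
    have := S.weakly_closed (g := k) (h' ▸ inv_mem hu.1)
    refine hu.2 2 ?_
    rw [pow_two, ← inv_inv u, ← h', this]
    exact inv_eq_of_mul_eq_one_left (by rw [← pow_two, ← pow_succ, S.z3])

include S in
/-- A centralizer has a normal complement. -/
theorem hnpc_centralizer {u : G} (hu : u ∈ NC P z) :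
    Cfsg.HasNormalPComplement 3 ↥(centralizer ({u} : Set G)) := by
  haveI : Fact (Nat.Prime 3) := ⟨Nat.prime_three⟩
  set C := centralizer ({u} : Set G)
  set A := ((P : Subgroup G) ⊓ C).subgroupOf C with hA
  have hcard : Nat.card A = 3 ^ (Nat.card C).factorization 3 := by
    rw [S.factorization_centralizer hu, hA, Nat.card_congr (subgroupOfEquivOfLe inf_le_right).toEquiv,
      S.card_cent_inf hu]
    rfl
  let T : Sylow 3 C := Sylow.ofCard A hcard
  have hgen : ∀ a : T, ∃ i j : ℕ, ((a : C) : G) = u ^ i * z ^ j := fun a => by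
    have ha := mem_inf.1 (mem_subgroupOf.1 a.2)
    exact S.mem_cent_inf hu ha.1 (mem_centralizer_singleton_iff.1 ha.2)
  refine CfsgLib.TransferBasic.hasNormalPComplement_of_le_centralizer T fun g hg => ?_
  refine mem_centralizer_iff.2 fun a ha => Subtype.ext ?_
  have hzC : z ∈ C := mem_centralizer_singleton_iff.2 (S.z_comm u hu.1)
  have hzT : (⟨z, hzC⟩ : C) ∈ A := mem_subgroupOf.2 (mem_inf.2 ⟨S.z_mem, hzC⟩)
  have hgz := mem_inf.1 (mem_subgroupOf.1 ((mem_normalizer_iff.1 hg ⟨z, hzC⟩).1 hzT))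
  have h1 : Commute (g : G) z := by
    have h := S.weakly_closed (g := (g : G)) hgz.1
    exact mul_inv_eq_iff_eq_mul.1 h
  have h2 : Commute (g : G) u := mem_centralizer_singleton_iff.1 g.2
  obtain ⟨i, j, hij⟩ := hgen ⟨a, ha⟩
  show (a : G) * g = g * a
  rw [show (a : G) = u ^ i * z ^ j from hij]
  exact ((h2.pow_right i).mul_right (h1.pow_right j)).symm.eq

include S in
/-- The normalizer controls fusion. -/
theorem fusion {u v g : G} (hu : u ∈ NC P z) (hv : v ∈ NC P z) (hg : g * u * g⁻¹ = v) :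
    ∃ n ∈ normalizer ((P : Subgroup G) : Set G), n * u * n⁻¹ = v := by
  haveI : Fact (Nat.Prime 3) := ⟨Nat.prime_three⟩
  set C := centralizer ({v} : Set G)
  set A := ((P : Subgroup G) ⊓ C).subgroupOf C with hA
  have hcard : Nat.card A = 3 ^ (Nat.card C).factorization 3 := by
    rw [S.factorization_centralizer hv, hA, Nat.card_congr (subgroupOfEquivOfLe inf_le_right).toEquiv,
      S.card_cent_inf hv]
    rfl
  let T : Sylow 3 C := Sylow.ofCard A hcard
  have hgz : g * z * g⁻¹ ∈ C := by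
    refine mem_centralizer_singleton_iff.2 ?_
    rw [← hg]
    exact ((show Commute z u from S.z_comm u hu.1).map (MulAut.conj g)).eq
  have hzp : IsPGroup 3 (zpowers (⟨_, hgz⟩ : C)) := IsPGroup.of_card (n := 1) (by
    rw [Nat.card_zpowers, orderOf_mk, pow_one, show g * z * g⁻¹ = MulAut.conj g z from rfl,
      MulEquiv.orderOf_eq, S.z_ord])
  obtain ⟨T', hT'⟩ := hzp.exists_le_sylow
  obtain ⟨c, hc⟩ := MulAction.exists_smul_eq C T' T
  have hcz : (c : G) * (g * z * g⁻¹) * (c : G)⁻¹ ∈ P := by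
    have : c * ⟨_, hgz⟩ * c⁻¹ ∈ (T : Subgroup C) := by
      rw [← hc, Sylow.coe_subgroup_smul, CfsgLib.SZ.mem_conj_smul]
      simpa [mul_assoc] using hT' (mem_zpowers _)
    exact (mem_inf.1 (mem_subgroupOf.1 this)).1
  set g' := (c : G) * g with hg'
  have hz' : g' * z * g'⁻¹ = z := S.weakly_closed (g := g') (by
    rw [show g' * z * g'⁻¹ = (c : G) * (g * z * g⁻¹) * (c : G)⁻¹ by rw [hg']; group]; exact hcz)
  have hu' : g' * u * g'⁻¹ = v := by
    calc g' * u * g'⁻¹ = (c : G) * (g * u * g⁻¹) * (c : G)⁻¹ := by rw [hg']; group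
      _ = v := by rw [hg, mem_centralizer_singleton_iff.1 c.2, mul_inv_cancel_right]
  obtain ⟨m, hm, hn⟩ := S.frattini hv.1 (g := g') fun p hp => by
    obtain ⟨hpz, i, hpi⟩ := S.le_nearStab hu.1 hp
    refine ⟨?_, i, ?_⟩
    · conv_lhs => rw [← hz']
      conv_rhs => rw [← hz']
      exact ((show Commute p z from hpz).map (MulAut.conj g')).eq
    · calc g' * p * g'⁻¹ * v * (g' * p * g'⁻¹)⁻¹ = g' * (p * u * p⁻¹) * g'⁻¹ := by
            rw [← hu']; group
        _ = (g' * u * g'⁻¹) * (g' * z * g'⁻¹) ^ i := by rw [hpi, conj_pow]; group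
        _ = v * z ^ i := by rw [hu', hz']
  obtain ⟨-, i, hi⟩ := hm
  obtain ⟨w, hw, hwv⟩ := S.move_pow (S.nc_mul hv i) (2 * i)
  refine ⟨w * (m * g'), mul_mem (le_normalizer hw) hn, ?_⟩
  calc w * (m * g') * u * (w * (m * g'))⁻¹ = w * (m * (g' * u * g'⁻¹) * m⁻¹) * w⁻¹ := by group
    _ = v * z ^ i * z ^ (2 * i) := by rw [hu', hi, hwv]
    _ = v := by rw [mul_assoc, ← pow_add, show i + 2 * i = 3 * i by ring, pow_mul, S.z3, one_pow, mul_one]

end Setting

end CfsgLib.ExtraThree
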