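import Cfsg.Agent.ExtraThree.Fusion

/-!
# The inertial quotient acts freely
-/

set_option autoImplicit false
set_option linter.unusedSectionVars false
set_option linter.style.haveILetI false

namespace CfsgLib.ExtraThree

open Subgroup Finset
open scoped commutatorElement
open scoped Classical

universe w

variable {G : Type w} [Group G] [Fintype G] {P : Sylow 3 G} {z : G}

/-- The inner part of the normalizer. -/
def inner (P : Sylow 3 G) : Subgroup G := (P : Subgroup G) ⊔ centralizer ((P : Subgroup G) : Set G)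

theorem inner_le (P : Sylow 3 G) : inner P ≤ normalizer ((P : Subgroup G) : Set G) :=
  sup_le le_normalizer (centralizer_le_normalizer _)

instance inner_normal (P : Sylow 3 G) :
    ((inner P).subgroupOf (normalizer ((P : Subgroup G) : Set G))).Normal := by
  haveI : ((P : Subgroup G).subgroupOf (normalizer ((P : Subgroup G) : Set G))).Normal :=
    normal_in_normalizer
  haveI : ((centralizer ((P : Subgroup G) : Set G)).subgroupOf
      (normalizer ((P : Subgroup G) : Set G))).Normal :=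
    ⟨fun c hc g => by
      rw [mem_subgroupOf, mem_centralizer_iff] at hc ⊢
      intro x hx
      have hx' : (g : G)⁻¹ * x * g ∈ (P : Subgroup G) := by
        have := (mem_normalizer_iff.1 (inv_mem g.2) x).1 hx
        rwa [inv_inv] at this
      push_cast
      calc x * ((g : G) * c * (g : G)⁻¹) = g * (((g : G)⁻¹ * x * g) * c) * (g : G)⁻¹ := by group
        _ = g * (c * ((g : G)⁻¹ * x * g)) * (g : G)⁻¹ := by rw [hc _ hx']
        _ = _ := by group⟩
  rw [inner, subgroupOf_sup le_normalizer (centralizer_le_normalizer _)]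
  infer_instance

/-- Counting the fibres of a conjugation map. -/
theorem card_fibres (H : Subgroup G) (u : G) :
    Nat.card H = (univ.filter fun v => ∃ n ∈ H, n * u * n⁻¹ = v).card *
      Nat.card (H ⊓ centralizer ({u} : Set G) : Subgroup G) := by
  have h : Nat.card H = ∑ v ∈ univ.filter (fun v => ∃ n ∈ H, n * u * n⁻¹ = v),
      (univ.filter fun n : H => (n : G) * u * (n : G)⁻¹ = v).card := by
    rw [Nat.card_eq_fintype_card, ← card_univ]
    exact card_eq_sum_card_fiberwise fun n _ => mem_filter.2 ⟨mem_univ _, n, n.2, rfl⟩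
  rw [h, sum_const_nat fun v hv => ?_]
  obtain ⟨n, hn, rfl⟩ := (mem_filter.1 hv).2
  rw [← Fintype.card_subtype, ← Nat.card_eq_fintype_card]
  refine Nat.card_congr
    { toFun := fun x => ⟨n⁻¹ * x.1.1, mem_inf.2 ⟨mul_mem (inv_mem hn) x.1.2,
        mem_centralizer_singleton_iff.2 ?_⟩⟩
      invFun := fun x => ⟨⟨n * x.1, mul_mem hn (mem_inf.1 x.2).1⟩, ?_⟩
      left_inv := fun x => Subtype.ext (Subtype.ext (by simp))
      right_inv := fun x => Subtype.ext (by simp) }
  · calc n⁻¹ * x.1.1 * u = n⁻¹ * ((x.1 : G) * u * (x.1 : G)⁻¹) * x.1.1 := by group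
      _ = n⁻¹ * (n * u * n⁻¹) * x.1.1 := by rw [x.2]
      _ = u * (n⁻¹ * x.1.1) := by group
  · have hx := mem_centralizer_singleton_iff.1 (mem_inf.1 x.2).2
    show n * (x.1 : G) * u * (n * x.1)⁻¹ = n * u * n⁻¹
    calc n * (x.1 : G) * u * (n * x.1)⁻¹ = n * ((x.1 : G) * u) * (x.1 : G)⁻¹ * n⁻¹ := by group
      _ = n * u * n⁻¹ := by rw [hx]; group

namespace Setting

variable (S : Setting P z)

include S in
theorem inner_conj {k : G} (hk : k ∈ inner P) : ∃ p ∈ P, ∀ x ∈ P, k * x * k⁻¹ = p * x * p⁻¹ := by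
  obtain ⟨p, hp, c, hc, hpc⟩ : ∃ p ∈ P, ∃ c ∈ centralizer ((P : Subgroup G) : Set G), p * c = k := by
    have h : k ∈ (((P : Subgroup G) ⊔ centralizer ((P : Subgroup G) : Set G) : Subgroup G) : Set G) := hk
    rw [coe_mul_of_right_le_normalizer_left (P : Subgroup G) _
      (centralizer_le_normalizer _)] at h
    obtain ⟨p, hp, c, hc, he⟩ := h
    exact ⟨p, hp, c, hc, he⟩
  refine ⟨p, hp, fun x hx => ?_⟩
  calc k * x * k⁻¹ = p * (c * x) * c⁻¹ * p⁻¹ := by rw [← hpc]; group
    _ = p * x * p⁻¹ := by rw [← mem_centralizer_iff.1 hc x hx]; group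

include S in
theorem nc_conj {u n : G} (hu : u ∈ NC P z) (hn : n ∈ normalizer ((P : Subgroup G) : Set G)) :
    n * u * n⁻¹ ∈ NC P z := by
  refine ⟨(mem_normalizer_iff.1 hn u).1 hu.1, fun i hi => hu.2 i ?_⟩
  have := S.fix n⁻¹ (inv_mem hn)
  calc u = n⁻¹ * (n * u * n⁻¹) * n⁻¹⁻¹ := by group
    _ = z ^ i := by rw [hi, ← conj_pow, this]

variable {e : ℕ}

include S in
/-- The inertial quotient acts freely on the nontrivial elements of `P / Z`. -/
theorem free (he : (inner P).relIndex (normalizer ((P : Subgroup G) : Set G)) = e)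
    (h3 : ¬ 3 ∣ e) {n u : G} (hn : n ∈ normalizer ((P : Subgroup G) : Set G))
    (hu : u ∈ NC P z) (hnu : Near z u n) : n ∈ inner P := by
  obtain ⟨t, ht⟩ := hnu
  obtain ⟨w, hw, hwu⟩ := S.exists_move hu
  have hnP : ∀ {x : G}, x ∈ P → n * x * n⁻¹ ∈ P := fun hx => (mem_normalizer_iff.1 hn _).1 hx
  have hnz := S.fix n hn
  obtain ⟨i, j, k, hnw⟩ := S.decompose hu hw hwu (hnP hw)
  have hzc : ∀ x ∈ P, ∀ m : ℕ, Commute x (z ^ m) := fun x hx m =>
    (show Commute x z from (S.z_comm x hx).symm).pow_right m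
  have hwm : ∀ m : ℕ, w ^ m * u * (w ^ m)⁻¹ = u * z ^ m := fun m => by
    induction m with
    | zero => simp
    | succ m ih =>
      calc w ^ (m + 1) * u * (w ^ (m + 1))⁻¹ = w * (w ^ m * u * (w ^ m)⁻¹) * w⁻¹ := by
            rw [pow_succ']; group
        _ = (w * u * w⁻¹) * (w * z ^ m * w⁻¹) := by rw [ih]; group
        _ = u * z ^ (m + 1) := by rw [hwu, (hzc w hw m).eq, mul_inv_cancel_right, pow_succ', mul_assoc]
  have huk : Commute (u ^ i * z ^ k) u :=
    ((Commute.refl u).pow_left i).mul_left (hzc u hu.1 k).symm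
  have hnuP : Commute (u ^ i * z ^ k) (u * z ^ t) :=
    huk.mul_right ((hzc _ (mul_mem (pow_mem hu.1 i) (pow_mem S.z_mem k)) t))
  have hj : z ^ j = z := by
    have e1 : n * (w * u * w⁻¹) * n⁻¹ = u * z ^ (t + 1) := by
      calc n * (w * u * w⁻¹) * n⁻¹ = (n * u * n⁻¹) * (n * z * n⁻¹) := by rw [hwu]; group
        _ = _ := by rw [ht, hnz, pow_succ, mul_assoc]
    have e2 : n * (w * u * w⁻¹) * n⁻¹ = u * z ^ (j + t) := by
      calc n * (w * u * w⁻¹) * n⁻¹ = (n * w * n⁻¹) * (n * u * n⁻¹) * (n * w * n⁻¹)⁻¹ := by group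
        _ = w ^ j * ((u ^ i * z ^ k) * (u * z ^ t) * (u ^ i * z ^ k)⁻¹) * (w ^ j)⁻¹ := by
          rw [hnw, ht]; group
        _ = (w ^ j * u * (w ^ j)⁻¹) * (w ^ j * z ^ t * (w ^ j)⁻¹) := by
          rw [hnuP.eq, mul_inv_cancel_right]; group
        _ = _ := by
          rw [hwm, (hzc _ (pow_mem hw j) t).eq, mul_inv_cancel_right, pow_add, mul_assoc]
    have h := mul_left_cancel (e1.symm.trans e2)
    rw [pow_succ', pow_add] at h
    exact (mul_right_cancel h).symm
  have hwj : w ^ j = w := by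
    have h1 : j ≡ 1 [MOD orderOf z] := pow_eq_pow_iff_modEq.1 (by rw [hj, pow_one])
    rw [S.z_ord] at h1
    rw [← pow_mod_orderOf w j]
    have hwne : orderOf w = 3 := orderOf_eq_prime (S.exp w hw) fun hh => by
      rw [hh] at hwu
      simp only [one_mul, inv_one, mul_one] at hwu
      exact S.z_ne (left_eq_mul.1 hwu)
    rw [hwne, show j % 3 = 1 from h1, pow_one]
  -- the third power fixes `u` and `w` up to the centre
  have hiter : ∀ m : ℕ, (∃ a, n ^ m * u * (n ^ m)⁻¹ = u * z ^ a) ∧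
      ∃ b, n ^ m * w * (n ^ m)⁻¹ = w * (u ^ (m * i) * z ^ b) := by
    intro m
    induction m with
    | zero => exact ⟨⟨0, by simp⟩, 0, by simp⟩
    | succ m ih =>
      obtain ⟨⟨a, ha⟩, b, hb⟩ := ih
      have hstep : ∀ x : G, n ^ (m + 1) * x * (n ^ (m + 1))⁻¹ = n * (n ^ m * x * (n ^ m)⁻¹) * n⁻¹ :=
        fun x => by rw [pow_succ']; group
      refine ⟨⟨t + a, ?_⟩, k + (t * (m * i) + b), ?_⟩
      · rw [hstep, ha, ← conj_mul, ← conj_pow, ht, hnz, pow_add, mul_assoc]
      · rw [hstep, hb, ← conj_mul, ← conj_mul, ← conj_pow, ← conj_pow, hnw, ht, hnz, hwj,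
          (hzc u hu.1 t).mul_pow, ← pow_mul]
        calc w * (u ^ i * z ^ k) * (u ^ (m * i) * z ^ (t * (m * i)) * z ^ b)
            = w * (u ^ i * (z ^ k * u ^ (m * i)) * (z ^ (t * (m * i)) * z ^ b)) := by
              simp only [mul_assoc]
          _ = w * (u ^ i * (u ^ (m * i) * z ^ k) * (z ^ (t * (m * i)) * z ^ b)) := by
              rw [(hzc _ (pow_mem hu.1 (m * i)) k).eq]
          _ = _ := by
              rw [show (m + 1) * i = i + m * i by ring, pow_add, pow_add, pow_add]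
              simp only [mul_assoc]
  obtain ⟨⟨a, ha⟩, b, hb⟩ := hiter 3
  rw [show u ^ (3 * i) = 1 by rw [pow_mul, S.exp u hu.1, one_pow], one_mul] at hb
  have huw : u * w * u⁻¹ = w * z ^ 2 := by
    calc u * w * u⁻¹ = u * (w * u⁻¹ * w⁻¹) * w := by group
      _ = u * (w * u * w⁻¹)⁻¹ * w := by group
      _ = z⁻¹ * w := by rw [hwu, S.z_comm u hu.1 |> Eq.symm]; group
      _ = z ^ 2 * w := by
        rw [show z⁻¹ = z ^ 2 from inv_eq_of_mul_eq_one_left (by rw [← pow_succ, S.z3])]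
      _ = w * z ^ 2 := ((hzc w hw 2).eq).symm
  have hum : ∀ m : ℕ, u ^ m * w * (u ^ m)⁻¹ = w * z ^ (2 * m) := fun m => by
    induction m with
    | zero => simp
    | succ m ih =>
      calc u ^ (m + 1) * w * (u ^ (m + 1))⁻¹ = u * (u ^ m * w * (u ^ m)⁻¹) * u⁻¹ := by
            rw [pow_succ']; group
        _ = (u * w * u⁻¹) * (u * z ^ (2 * m) * u⁻¹) := by rw [ih]; group
        _ = w * z ^ (2 * (m + 1)) := by
          rw [huw, (hzc u hu.1 _).eq, mul_inv_cancel_right, mul_assoc, ← pow_add]; congr 2; ring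
  set q := w ^ a * u ^ (2 * b) with hq
  have hqP : q ∈ P := mul_mem (pow_mem hw a) (pow_mem hu.1 _)
  have hqu : q * u * q⁻¹ = n ^ 3 * u * (n ^ 3)⁻¹ := by
    rw [ha, hq]
    calc w ^ a * u ^ (2 * b) * u * (w ^ a * u ^ (2 * b))⁻¹
        = w ^ a * (u ^ (2 * b) * u * (u ^ (2 * b))⁻¹) * (w ^ a)⁻¹ := by group
      _ = u * z ^ a := by rw [((Commute.refl u).pow_left _).eq, mul_inv_cancel_right, hwm]
  have hqw : q * w * q⁻¹ = n ^ 3 * w * (n ^ 3)⁻¹ := by
    rw [hb, hq]
    calc w ^ a * u ^ (2 * b) * w * (w ^ a * u ^ (2 * b))⁻¹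
        = w ^ a * (u ^ (2 * b) * w * (u ^ (2 * b))⁻¹) * (w ^ a)⁻¹ := by group
      _ = (w ^ a * w * (w ^ a)⁻¹) * (w ^ a * z ^ (2 * (2 * b)) * (w ^ a)⁻¹) := by rw [hum]; group
      _ = w * z ^ b := by
        rw [((Commute.refl w).pow_left a).eq, mul_inv_cancel_right, (hzc _ (pow_mem hw a) _).eq,
          mul_inv_cancel_right, show 2 * (2 * b) = b + 3 * b by ring, pow_add, pow_mul, S.z3, one_pow,
          mul_one]
  have hn3 : n ^ 3 ∈ inner P := by
    have hd : q⁻¹ * n ^ 3 ∈ centralizer ((P : Subgroup G) : Set G) := by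
      have key : ∀ x : G, q * x * q⁻¹ = n ^ 3 * x * (n ^ 3)⁻¹ →
          Commute (q⁻¹ * n ^ 3) x := fun x hx => by
        show q⁻¹ * n ^ 3 * x = x * (q⁻¹ * n ^ 3)
        calc q⁻¹ * n ^ 3 * x = q⁻¹ * (n ^ 3 * x * (n ^ 3)⁻¹) * n ^ 3 := by group
          _ = x * (q⁻¹ * n ^ 3) := by rw [← hx]; group
      have cu := key u hqu
      have cw := key w hqw
      have cz : Commute (q⁻¹ * n ^ 3) z :=
        ((show Commute q z from (S.z_comm q hqP).symm).inv_left).mul_left
          ((show Commute n z from mul_inv_eq_iff_eq_mul.1 hnz).pow_left 3)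
      refine mem_centralizer_iff.2 fun x hx => ?_
      obtain ⟨i', j', k', rfl⟩ := S.decompose hu hw hwu hx
      exact ((cw.pow_right j').mul_right ((cu.pow_right i').mul_right (cz.pow_right k'))).eq.symm
    have := mul_mem (mem_sup_left (T := centralizer ((P : Subgroup G) : Set G)) hqP)
      (mem_sup_right (S := (P : Subgroup G)) hd)
    rwa [mul_inv_cancel_left] at this
  have hne : n ^ e ∈ inner P := by
    have := pow_index_mem ((inner P).subgroupOf (normalizer ((P : Subgroup G) : Set G))) ⟨n, hn⟩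
    rw [show ((inner P).subgroupOf (normalizer ((P : Subgroup G) : Set G))).index = e from he] at this
    simpa [mem_subgroupOf] using this
  have hcop : Nat.Coprime 3 e := Nat.prime_three.coprime_iff_not_dvd.2 h3
  have h := Nat.gcd_eq_gcd_ab 3 e
  rw [hcop.gcd_eq_one] at h
  have : n = (n ^ 3) ^ Nat.gcdA 3 e * (n ^ e) ^ Nat.gcdB 3 e := by
    rw [← zpow_natCast n 3, ← zpow_natCast n e, ← zpow_mul, ← zpow_mul, ← zpow_add, ← h]
    simp
  rw [this]
  exact mul_mem (zpow_mem hn3 _) (zpow_mem hne _)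

/-- The conjugates in `P` of a noncentral element. -/
noncomputable def orbit (_S : Setting P z) (u : G) : Finset G :=
  univ.filter fun v => v ∈ NC P z ∧ IsConj u v

include S in
theorem mem_orbit {u v : G} : v ∈ S.orbit u ↔ v ∈ NC P z ∧ IsConj u v := by simp [orbit]

include S in
theorem orbit_card (he : (inner P).relIndex (normalizer ((P : Subgroup G) : Set G)) = e)
    (h3 : ¬ 3 ∣ e) {u : G} (hu : u ∈ NC P z) : (S.orbit u).card = 3 * e := by
  set N := normalizer ((P : Subgroup G) : Set G)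
  have hN : S.orbit u = univ.filter fun v => ∃ n ∈ N, n * u * n⁻¹ = v := by
    ext v
    rw [S.mem_orbit, mem_filter]
    constructor
    · rintro ⟨hv, hc⟩
      obtain ⟨g, hg⟩ := isConj_iff.1 hc
      exact ⟨mem_univ _, S.fusion hu hv hg⟩
    · rintro ⟨-, n, hn, rfl⟩
      exact ⟨S.nc_conj hu hn, isConj_iff.2 ⟨n, rfl⟩⟩
  have hK : (univ.filter fun v => ∃ n ∈ inner P, n * u * n⁻¹ = v) =
      (Finset.range 3).image fun i => u * z ^ i := by
    ext v
    simp only [mem_filter, Finset.mem_univ, true_and, Finset.mem_image, Finset.mem_range]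
    constructor
    · rintro ⟨n, hn, rfl⟩
      obtain ⟨p, hp, hpc⟩ := S.inner_conj hn
      obtain ⟨i, hi⟩ := S.comm p hp u hu.1
      refine ⟨i % 3, Nat.mod_lt _ (by norm_num), ?_⟩
      rw [hpc u hu.1, hi, ← pow_mod_orderOf z i, S.z_ord]
    · rintro ⟨i, -, rfl⟩
      obtain ⟨w, hw, hwu⟩ := S.move_pow hu i
      exact ⟨w, mem_sup_left hw, hwu⟩
  have hK3 : ((Finset.range 3).image fun i => u * z ^ i).card = 3 := by
    rw [card_image_of_injOn, Finset.card_range]
    intro i hi j hj hij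
    have h := pow_inj_mod.1 (mul_left_cancel hij)
    rw [S.z_ord, Nat.mod_eq_of_lt (Finset.mem_range.1 hi), Nat.mod_eq_of_lt (Finset.mem_range.1 hj)] at h
    exact h
  have hinf : (N ⊓ centralizer ({u} : Set G) : Subgroup G) = inner P ⊓ centralizer {u} := by
    refine le_antisymm (fun n hn => Subgroup.mem_inf.2 ⟨?_, (Subgroup.mem_inf.1 hn).2⟩)
      (inf_le_inf_right _ (inner_le P))
    refine S.free he h3 (Subgroup.mem_inf.1 hn).1 hu ⟨0, ?_⟩
    rw [pow_zero, mul_one, mem_centralizer_singleton_iff.1 (Subgroup.mem_inf.1 hn).2, mul_inv_cancel_right]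
  have h1 := card_fibres N u
  have h2 := card_fibres (inner P) u
  rw [hK, hK3] at h2
  rw [← hN, hinf] at h1
  have h4 : Nat.card N = e * Nat.card (inner P) := by
    rw [← he, relIndex, ← Nat.card_congr (subgroupOfEquivOfLe (inner_le P)).toEquiv, mul_comm,
      card_mul_index]
  rw [h4, h2] at h1
  have hpos : 0 < Nat.card (inner P ⊓ centralizer ({u} : Set G) : Subgroup G) := Nat.card_pos
  exact (Nat.eq_of_mul_eq_mul_right hpos (by rw [← h1]; ring)).symm

include S in
/-- Representatives of the classes of noncentral elements. -/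
theorem exists_reps (he : (inner P).relIndex (normalizer ((P : Subgroup G) : Set G)) = e)
    (h3 : ¬ 3 ∣ e) {c : ℕ} (hce : c * e = 8) : ∃ u : Fin c → G, (∀ r, u r ∈ NC P z) ∧
      (∀ r r', r ≠ r' → ¬ IsConj (u r) (u r')) ∧ ∀ v ∈ NC P z, ∃ r, IsConj v (u r) := by
  set NF := univ.filter (· ∈ NC P z)
  have hNF : NF.card = 24 := by
    have hsplit : (univ.filter fun x : G => x ∈ P) = NF ∪ (univ.filter fun x => x ∈ zpowers z) := by
      ext x
      simp only [NF, mem_union, mem_filter, Finset.mem_univ, true_and]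
      constructor
      · intro hx
        by_cases h : ∀ i : ℕ, x ≠ z ^ i
        · exact Or.inl ⟨hx, h⟩
        · push Not at h
          obtain ⟨i, rfl⟩ := h
          exact Or.inr (pow_mem (mem_zpowers z) i)
      · rintro (h | h)
        · exact h.1
        · exact zpowers_le.2 S.z_mem h
    have hd : Disjoint NF (univ.filter fun x => x ∈ zpowers z) := by
      rw [Finset.disjoint_left]
      intro x hx hx'
      obtain ⟨i, hi⟩ := (isOfFinOrder_of_finite z).mem_powers_iff_mem_zpowers.2 (mem_filter.1 hx').2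
      exact (mem_filter.1 hx).2.2 i hi.symm
    have h := congrArg Finset.card hsplit
    rw [card_union_of_disjoint hd, ← Fintype.card_subtype, ← Nat.card_eq_fintype_card,
      ← Fintype.card_subtype (fun x => x ∈ zpowers z),
      ← Nat.card_eq_fintype_card (α := {x // x ∈ zpowers z}),
      show Nat.card {x // x ∈ zpowers z} = 3 from S.card_zpowers_z] at h
    have : Nat.card {x : G // x ∈ P} = 27 := S.card
    omega
  set I := NF.image S.orbit
  have hfib : ∀ O ∈ I, (NF.filter fun v => S.orbit v = O).card = 3 * e := by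
    intro O hO
    obtain ⟨u, hu, rfl⟩ := Finset.mem_image.1 hO
    rw [← S.orbit_card he h3 (mem_filter.1 hu).2]
    congr 1
    ext v
    rw [mem_filter, S.mem_orbit, mem_filter]
    constructor
    · rintro ⟨⟨-, hv⟩, hvo⟩
      exact ⟨hv, (S.mem_orbit.1 (hvo ▸ S.mem_orbit.2 ⟨hv, IsConj.refl v⟩)).2⟩
    · rintro ⟨hv, hc⟩
      refine ⟨⟨Finset.mem_univ _, hv⟩, ?_⟩
      ext x
      rw [S.mem_orbit, S.mem_orbit]
      exact ⟨fun h => ⟨h.1, hc.trans h.2⟩, fun h => ⟨h.1, hc.symm.trans h.2⟩⟩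
  have hIc : I.card = c := by
    have h := card_eq_sum_card_image S.orbit NF
    rw [sum_const_nat hfib, hNF] at h
    have he0 : 0 < e := Nat.pos_of_ne_zero fun h0 => h3 (h0 ▸ dvd_zero 3)
    refine Nat.eq_of_mul_eq_mul_right he0 ?_
    rw [hce]
    have : 3 * (I.card * e) = 3 * 8 := by rw [show 3 * 8 = 24 from rfl, h]; ring
    omega
  let en := (I.equivFinOfCardEq hIc).symm
  choose u hu hue using fun r : Fin c => Finset.mem_image.1 (en r).2
  refine ⟨u, fun r => (mem_filter.1 (hu r)).2, fun r r' hne hc => hne (en.injective (Subtype.ext ?_)),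
    fun v hv => ⟨en.symm ⟨_, Finset.mem_image_of_mem S.orbit (mem_filter.2 ⟨Finset.mem_univ v, hv⟩)⟩, ?_⟩⟩
  · rw [← hue r, ← hue r']
    ext x
    rw [S.mem_orbit, S.mem_orbit]
    exact ⟨fun h => ⟨h.1, hc.symm.trans h.2⟩, fun h => ⟨h.1, hc.trans h.2⟩⟩
  · have h := hue (en.symm ⟨_, Finset.mem_image_of_mem S.orbit (mem_filter.2 ⟨Finset.mem_univ v, hv⟩)⟩)
    rw [Equiv.apply_symm_apply] at h
    have h' := S.mem_orbit.2
      ⟨(mem_filter.1 (hu (en.symm ⟨_, Finset.mem_image_of_mem S.orbit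
        (mem_filter.2 ⟨Finset.mem_univ v, hv⟩)⟩))).2, IsConj.refl _⟩
    rw [h] at h'
    exact (S.mem_orbit.1 h').2

include S in
/-- An even inertial index inverts every noncentral element. -/
theorem isConj_inv (he : (inner P).relIndex (normalizer ((P : Subgroup G) : Set G)) = e)
    (h3 : ¬ 3 ∣ e) (h2 : 2 ∣ e) {u : G} (hu : u ∈ NC P z) :
    ∃ n ∈ normalizer ((P : Subgroup G) : Set G), n * u * n⁻¹ = u⁻¹ := by
  haveI : Fact (Nat.Prime 2) := ⟨Nat.prime_two⟩
  set N := normalizer ((P : Subgroup G) : Set G)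
  set K := (inner P).subgroupOf N
  have hidx : 2 ∣ Nat.card (N ⧸ K) := by
    rw [← index_eq_card, show K.index = e from he]; exact h2
  obtain ⟨q, hq⟩ := exists_prime_orderOf_dvd_card' 2 hidx
  obtain ⟨n, rfl⟩ := QuotientGroup.mk_surjective q
  have hnK : (n : G) ∉ inner P := fun h => by
    rw [(QuotientGroup.eq_one_iff n).2 (mem_subgroupOf.2 h), orderOf_one] at hq
    norm_num at hq
  have hn2 : ((n : G)) * n ∈ inner P := by
    have := pow_orderOf_eq_one (n : N ⧸ K)
    rw [hq, pow_two, ← QuotientGroup.mk_mul, QuotientGroup.eq_one_iff, mem_subgroupOf] at this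
    simpa using this
  obtain ⟨v, hv⟩ : ∃ v, v = (n : G) * u * (n : G)⁻¹ := ⟨_, rfl⟩
  have hvNC : v ∈ NC P z := hv ▸ S.nc_conj hu n.2
  obtain ⟨p, hp, hpc⟩ := S.inner_conj hn2
  obtain ⟨a, ha⟩ := S.comm p hp u hu.1
  have hnv : (n : G) * v * (n : G)⁻¹ = u * z ^ a := by
    rw [← ha, ← hpc u hu.1, hv]; group
  by_cases hc : ∀ i : ℕ, v * u ≠ z ^ i
  · exfalso
    refine hnK (S.free he h3 n.2 ⟨mul_mem hvNC.1 hu.1, hc⟩ ?_)
    obtain ⟨b, hb⟩ := S.comm u hu.1 v hvNC.1
    refine ⟨b + a, ?_⟩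
    have hzc : ∀ (x : G), x ∈ P → ∀ m : ℕ, Commute x (z ^ m) := fun x hx m =>
      (show Commute x z from (S.z_comm x hx).symm).pow_right m
    have huv : u * v = v * u * z ^ b := by
      calc u * v = u * v * u⁻¹ * u := by group
        _ = v * (z ^ b * u) := by rw [hb, mul_assoc]
        _ = v * u * z ^ b := by rw [← (hzc u hu.1 b).eq, mul_assoc]
    calc (n : G) * (v * u) * (n : G)⁻¹ = ((n : G) * v * (n : G)⁻¹) * ((n : G) * u * (n : G)⁻¹) := by
          group
      _ = ((n : G) * v * (n : G)⁻¹) * v := by rw [← hv]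
      _ = u * (z ^ a * v) := by rw [hnv, mul_assoc]
      _ = u * v * z ^ a := by rw [← (hzc v hvNC.1 a).eq, mul_assoc]
      _ = v * u * z ^ (b + a) := by rw [huv, pow_add]; simp only [mul_assoc]
  · push Not at hc
    obtain ⟨i, hi⟩ := hc
    have huinv : u⁻¹ ∈ NC P z := ⟨inv_mem hu.1, fun j hj => hu.2 (2 * j) (by
      rw [← inv_inv u, hj]
      exact inv_eq_of_mul_eq_one_left (by
        rw [← pow_add, show 2 * j + j = 3 * j by ring, pow_mul, S.z3, one_pow]))⟩
    have hveq : v = u⁻¹ * z ^ i := by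
      have : v = z ^ i * u⁻¹ := by rw [← hi, mul_inv_cancel_right]
      rw [this]
      exact ((show Commute u⁻¹ z from (S.z_comm _ huinv.1).symm).pow_right i).symm.eq
    obtain ⟨w, hw, hwu⟩ := S.move_pow huinv (2 * i)
    refine ⟨w * (n : G), mul_mem (le_normalizer hw) n.2, ?_⟩
    calc w * (n : G) * u * (w * (n : G))⁻¹ = w * v * w⁻¹ := by rw [hv]; group
      _ = (w * u⁻¹ * w⁻¹) * (w * z ^ i * w⁻¹) := by rw [hveq]; group
      _ = u⁻¹ := by
        rw [hwu, ((show Commute w z from (S.z_comm w hw).symm).pow_right i).eq, mul_inv_cancel_right,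
          mul_assoc, ← pow_add, show 2 * i + i = 3 * i by ring, pow_mul, S.z3, one_pow, mul_one]

include S in
/-- Trivial inertia gives a normal complement. -/
theorem hnpc_of_one (he : (inner P).relIndex (normalizer ((P : Subgroup G) : Set G)) = 1) :
    Cfsg.HasNormalPComplement 3 G := by
  haveI : Fact (Nat.Prime 3) := ⟨Nat.prime_three⟩
  have hN : normalizer ((P : Subgroup G) : Set G) ≤ inner P := relIndex_eq_one.1 he
  refine CfsgLib.NormalizerComplement.hasNormalPComplement_of_focal P ?_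
  rw [Subgroup.focalSubgroup_def, closure_le]
  rintro g ⟨hgP, x, hx, v, rfl⟩
  show ⁅x, v⁆ ∈ ⁅(P : Subgroup G), (P : Subgroup G)⁆
  set y := v * x⁻¹ * v⁻¹ with hy
  have hg : ⁅x, v⁆ = x * y := by rw [commutatorElement_def, hy]; group
  have hyP : y ∈ P := by
    have h : x⁻¹ * ⁅x, v⁆ ∈ (P : Subgroup G) := mul_mem (inv_mem hx) hgP
    rwa [hg, inv_mul_cancel_left] at h
  have hpow : ∀ (k : G) (m : ℕ), k * z ^ m * k⁻¹ ∈ P → k * z ^ m * k⁻¹ = z ^ m := by
    intro k m hk
    rcases S.z_pow_cases m with h | h | h <;> rw [h] at hk ⊢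
    · group
    · exact S.weakly_closed hk
    · rw [← conj_inv] at hk ⊢
      rw [S.weakly_closed (inv_inv (k * z * k⁻¹) ▸ inv_mem hk)]
  by_cases hxc : ∀ m : ℕ, x⁻¹ ≠ z ^ m
  · have hyc : ∀ m : ℕ, y ≠ z ^ m := fun m hm => by
      have e : v⁻¹ * z ^ m * v⁻¹⁻¹ = x⁻¹ := by rw [← hm, hy]; group
      have := hpow v⁻¹ m (e ▸ inv_mem hx)
      exact hxc m (e.symm.trans this)
    obtain ⟨n, hn, hne⟩ := S.fusion ⟨inv_mem hx, hxc⟩ ⟨hyP, hyc⟩ (g := v) rfl
    obtain ⟨p, hp, hpc⟩ := S.inner_conj (hN hn)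
    rw [hg, ← hne, hpc _ (inv_mem hx),
      show x * (p * x⁻¹ * p⁻¹) = ⁅x, p⁆ by rw [commutatorElement_def]; group]
    exact commutator_mem_commutator hx hp
  · push Not at hxc
    obtain ⟨m, hm⟩ := hxc
    have : y = x⁻¹ := by
      rw [hy, hm]
      exact hpow v m (by rw [← hm]; exact hyP)
    rw [hg, this, mul_inv_cancel]
    exact one_mem _

end Setting

end CfsgLib.ExtraThree
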