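import Cfsg.Agent.ExtraThree.Comb
import Cfsg.Agent.BlocksB.PrincipalInner
import Cfsg.Agent.BlocksB.PrincipalGapValues
import Cfsg.Agent.BlocksB.CentralQuotientBound
import Cfsg.Agent.BlocksB.Counting

/-!
# Columns at elements of order three with a small centralizer
-/

set_option autoImplicit false
set_option linter.unusedSectionVars false
set_option linter.style.haveILetI false

namespace CfsgLib.ExtraThree

open Cfsg Finset CfsgLib.Block CfsgLib.Block.Chr CfsgLib.Char CfsgLib.BlockB CfsgLib.GapOne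
open scoped ComplexConjugate
open scoped Classical

universe w

variable {G : Type w} [Group G] [Fintype G] {M : Ideal AlgInt} [M.IsPrime]

/-- Representatives of classes of elements of order three with small centralizers. -/
structure Classes (G : Type w) [Group G] [Finite G] (c : ℕ) where
  u : Fin c → G
  ord : ∀ r, orderOf (u r) = 3
  inv : ∀ r, IsConj (u r) (u r)⁻¹
  sep : ∀ r r', r ≠ r' → ¬ IsConj (u r) (u r')
  hnpc : ∀ r, Cfsg.HasNormalPComplement 3 ↥(Subgroup.centralizer ({u r} : Set G))
  exp : ∀ r, (Nat.card ↥(Subgroup.centralizer ({u r} : Set G))).factorization 3 = 2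

/-- A character of the principal block does not vanish at all singular elements. -/
theorem exists_singular_ne_zero (hM : IsPModular 3 M) (h3 : 3 ∣ Nat.card G) {χ : IrrCharacter G}
    (hχ : χ ∈ principalBlock M G) : ∃ g : G, 3 ∣ orderOf g ∧ (χ : G → ℂ) g ≠ 0 := by
  haveI : Fact (Nat.Prime 3) := ⟨Nat.prime_three⟩
  obtain ⟨g₀, hg₀⟩ := exists_prime_orderOf_dvd_card' 3 h3
  by_contra hc
  push Not at hc
  have h1 : χ ≠ oneIrr G := by
    rintro rfl
    exact one_ne_zero ((oneIrr_apply g₀).symm.trans (hc g₀ (dvd_of_eq hg₀.symm)))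
  have hu := (heightForm_unit_iff hM isPBlock_principalBlock
    (oneIrr_mem_principalBlock (G := G)) hχ).2 oneIrr_height_zero
  refine hu ?_
  have hzero : heightForm 3 (oneIrr G) χ = 0 := by
    have hsum : ∑ g : G, (χ : G → ℂ) g = 0 := by
      have h := classInner_irr χ (oneIrr G)
      rw [if_neg h1, CfsgLib.Char.classInner_def] at h
      simpa [oneIrr_apply] using h
    have heq : ∀ g : G, regPart 3 (fun g => conj ((oneIrr G : G → ℂ) g)) g * (χ : G → ℂ) g =
        (χ : G → ℂ) g := by
      intro g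
      by_cases hg : 3 ∣ orderOf g
      · rw [hc g hg, mul_zero]
      · rw [regPart_of_not_dvd hg, oneIrr_apply, map_one, one_mul]
    rw [heightForm, CfsgLib.Block.omega, sum_congr rfl fun g _ => heq g, hsum, zero_div]
  rw [hzero]
  exact memLocalIdeal_zero

theorem isPPart_of_order {u s : G} (hu : orderOf u = 3) (hs : Commute u s)
    (hreg : ¬ 3 ∣ orderOf s) : IsPPart 3 (u * s) u :=
  ⟨s, rfl, hs, ⟨1, by rw [hu, pow_one]⟩, hreg⟩

theorem isPPart_one {s : G} (hreg : ¬ 3 ∣ orderOf s) : IsPPart 3 s 1 :=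
  ⟨s, one_mul s, Commute.one_left s, ⟨0, by simp⟩, hreg⟩

theorem not_isConj_one {u : G} (hu : orderOf u = 3) : ¬ IsConj u 1 := fun h => by
  rw [isConj_comm, isConj_one_right] at h
  rw [h, orderOf_one] at hu
  norm_num at hu

theorem isPPart_self {u : G} (hu : orderOf u = 3) : IsPPart 3 u u := by
  simpa using isPPart_of_order hu (Commute.one_right u) (by rw [orderOf_one]; norm_num)

/-- The integral values. -/
theorem exists_int_value {c : ℕ} (K : Classes G c) (r : Fin c) (χ : IrrCharacter G) :
    ∃ m : ℤ, (χ : G → ℂ) (K.u r) = m ∧ (3 : ℤ) ∣ m - (charDegree (χ : G → ℂ) : ℤ) := by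
  set u := K.u r
  have hu := K.ord r
  have h3 : u ^ 3 = 1 := hu ▸ pow_orderOf_eq_one u
  obtain ⟨g, hg⟩ := isConj_iff.1 (K.inv r)
  have hinv : (χ : G → ℂ) u⁻¹ = (χ : G → ℂ) u := by rw [← hg, isClassFunction_irr χ]
  obtain ⟨m, hm⟩ : ∃ m : ℤ, (χ : G → ℂ) u = m := by
    refine IsCharacter.exists_int_apply (isCharacter_irr χ) fun t ht => ?_
    have h3t : ¬ 3 ∣ t := fun h => by
      have : 3 ∣ Nat.card G := hu ▸ orderOf_dvd_natCard u
      exact absurd (Nat.eq_one_of_dvd_coprimes ht h this) (by norm_num)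
    rw [← pow_mod_orderOf u t, hu]
    have : t % 3 = 1 ∨ t % 3 = 2 := by omega
    rcases this with h | h <;> rw [h]
    · rw [pow_one]
    · rw [show u ^ 2 = u⁻¹ from eq_inv_of_mul_eq_one_left (by rw [← pow_succ, h3]), hinv]
  refine ⟨m, hm, ?_⟩
  obtain ⟨n, hn⟩ := CfsgLib.BlocksB.exists_avg_eq_natCast (isCharacter_irr χ) (Subgroup.zpowers u)
  rw [Nat.card_zpowers, hu, ← Equiv.sum_comp (finEquivZPowers (isOfFinOrder_of_finite u)),
    ← Equiv.sum_comp (finCongr hu.symm), Fin.sum_univ_three] at hn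
  simp only [finEquivZPowers_apply, finCongr_apply, Fin.val_cast, Fin.val_zero, pow_zero,
    Fin.val_one, pow_one, Fin.val_two] at hn
  rw [show u ^ 2 = u⁻¹ from eq_inv_of_mul_eq_one_left (by rw [← pow_succ, h3]), hinv, hm,
    (irr_one χ).1] at hn
  have hn' : (charDegree (χ : G → ℂ) : ℤ) + m + m = 3 * n := by exact_mod_cast hn
  omega

/-- The value at the chosen representative. -/
noncomputable def val {c : ℕ} (K : Classes G c) (r : Fin c) (χ : IrrCharacter G) : ℤ :=
  (exists_int_value K r χ).choose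

theorem val_spec {c : ℕ} (K : Classes G c) (r : Fin c) (χ : IrrCharacter G) :
    (χ : G → ℂ) (K.u r) = (val K r χ : ℂ) ∧
      (3 : ℤ) ∣ val K r χ - (charDegree (χ : G → ℂ) : ℤ) :=
  (exists_int_value K r χ).choose_spec

/-- The column of `u` is constant on its section. -/
theorem section_const {c : ℕ} (K : Classes G c) (r : Fin c) (hM : IsPModular 3 M)
    {χ : IrrCharacter G} (hχ : χ ∈ principalBlock M G)
    {s : G} (hs : Commute (K.u r) s) (hreg : ¬ 3 ∣ orderOf s) :
    (χ : G → ℂ) (K.u r * s) = (val K r χ : ℂ) := by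
  haveI : Fact (Nat.Prime 3) := ⟨Nat.prime_three⟩
  obtain ⟨N, hNn, hN, hidx⟩ := exists_complement_data (K.hnpc r)
  haveI := hNn
  have hmem : s ∈ Subgroup.centralizer ({K.u r} : Set G) :=
    Subgroup.mem_centralizer_singleton_iff.2 hs.symm.eq
  have h := principal_constant hM (k := 1) (by rw [K.ord r, pow_one]) N hN ⟨_, hidx⟩ hχ
    (w := ⟨s, hmem⟩) (mem_of_regular hM.1 N hidx (by rwa [Subgroup.orderOf_mk]))
  exact h.trans (val_spec K r χ).1

theorem intClass (G : Type w) [Group G] [Fintype G] :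
    IsIntClass M (blockCoeff (principalBlock M G)) :=
  isIntClass_blockCoeff isPBlock_principalBlock

/-- The columns at the noncentral elements. -/
noncomputable def Classes.vcols {c : ℕ} (K : Classes G c) (hM : IsPModular 3 M)
    [Fintype ↥(principalBlock M G)] : VCols ↥(principalBlock M G) c where
  o := ⟨oneIrr G, oneIrr_mem_principalBlock⟩
  d := fun χ => (charDegree (χ.1 : G → ℂ) : ℤ)
  v := fun r χ => val K r χ.1
  d_pos := fun χ => by exact_mod_cast (irr_one χ.1).2
  d_o := by simp [charDegree]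
  v_o := fun r => by
    have h := (val_spec K r (oneIrr G)).1
    rw [oneIrr_apply] at h
    exact_mod_cast h.symm
  v_cong := fun r χ => (val_spec K r χ.1).2
  vv := fun r r' => by
    haveI : Fact (Nat.Prime 3) := ⟨Nat.prime_three⟩
    letI := irrFintype (G := G)
    have key : ((∑ χ : ↥(principalBlock M G), val K r χ.1 * val K r' χ.1 : ℤ) : ℂ) =
        ∑ χ ∈ univ.filter (· ∈ principalBlock M G),
          (χ : G → ℂ) (K.u r) * conj ((χ : G → ℂ) (K.u r')) := by
      rw [sum_subtype (univ.filter (· ∈ principalBlock M G)) (p := (· ∈ principalBlock M G))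
        (by simp) fun χ : IrrCharacter G => (χ : G → ℂ) (K.u r) * conj ((χ : G → ℂ) (K.u r')),
        Int.cast_sum]
      exact sum_congr rfl fun χ _ => by
        rw [(val_spec K r χ.1).1, (val_spec K r' χ.1).1, map_intCast (starRingEnd ℂ), Int.cast_mul]
    split_ifs with h
    · subst h
      obtain ⟨N, hNn, hN, hidx⟩ := exists_complement_data (K.hnpc r)
      haveI := hNn
      have h9 := sum_sq_value hM (k := 1) (by rw [K.ord r, pow_one]) N hN ⟨_, hidx⟩
      rw [hidx, K.exp r, sum_congr rfl fun χ _ => mul_comm (conj _) _, ← key] at h9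
      exact_mod_cast h9
    · have h0 := block_orth hM (intClass G)
        (isPPart_self (K.ord r))
        (isPPart_self (K.ord r')) (K.sep r r' h)
      rw [← key] at h0
      exact_mod_cast h0

/-- Orthogonality of a column at `u` with any other section. -/
theorem sum_val_eq_zero {c : ℕ} (K : Classes G c) (r : Fin c) (hM : IsPModular 3 M)
    [Fintype ↥(principalBlock M G)] {g x : G}
    (hg : IsPPart 3 g x) (hx : ¬ IsConj x (K.u r)) :
    ∑ χ : ↥(principalBlock M G), (χ.1 : G → ℂ) g * (val K r χ.1 : ℂ) = 0 := by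
  haveI : Fact (Nat.Prime 3) := ⟨Nat.prime_three⟩
  letI := irrFintype (G := G)
  have h0 := block_orth hM (intClass G) hg
    (isPPart_self (K.ord r)) hx
  rw [sum_subtype (univ.filter (· ∈ principalBlock M G)) (p := (· ∈ principalBlock M G))
    (by simp) fun χ : IrrCharacter G => (χ : G → ℂ) g * conj ((χ : G → ℂ) (K.u r))] at h0
  rw [← h0]
  exact sum_congr rfl fun χ _ => by rw [(val_spec K r χ.1).1, map_intCast (starRingEnd ℂ)]

end CfsgLib.ExtraThree
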