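import Cfsg.Agent.ExtraThree.Columns
import Cfsg.Agent.Char.TwoClass

/-!
# The invariants of the principal block
-/

set_option autoImplicit false
set_option linter.unusedSectionVars false
set_option linter.style.haveILetI false

namespace CfsgLib.ExtraThree

open Cfsg Finset CfsgLib.Block CfsgLib.Block.Chr CfsgLib.Char CfsgLib.BlockB CfsgLib.GapOne
open scoped ComplexConjugate commutatorElement
open scoped Classical

universe w

variable {G : Type w} [Group G] [Fintype G] {P : Sylow 3 G} {M : Ideal AlgInt} [M.IsPrime]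

theorem exists_setting (hE : Cfsg.IsExtraspecial 3 ↥(P : Subgroup G))
    (h27 : Nat.card ↥(P : Subgroup G) = 27) (hexp : ∀ x ∈ (P : Subgroup G), x ^ 3 = 1)
    (hNC : ∀ g ∈ Subgroup.normalizer ((P : Subgroup G) : Set G), ∀ z ∈ (P : Subgroup G),
      (∀ y ∈ (P : Subgroup G), z * y = y * z) → g * z = z * g) :
    ∃ z, Setting P z := by
  haveI : Fact (Nat.Prime 3) := ⟨Nat.prime_three⟩
  set K := (P : Subgroup G)
  obtain ⟨c, hc⟩ := exists_prime_orderOf_dvd_card' (G := Subgroup.center K) 3 (by rw [hE.2])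
  have hz : orderOf ((c : K) : G) = 3 := by rw [Subgroup.orderOf_coe, Subgroup.orderOf_coe, hc]
  have hcomm : ∀ y ∈ K, ((c : K) : G) * y = y * ((c : K) : G) := fun y hy =>
    congrArg Subtype.val (Subgroup.mem_center_iff.1 c.2 ⟨y, hy⟩).symm
  have hmem : ∀ x : K, x ∈ Subgroup.center K → ∃ i : ℕ, (x : G) = ((c : K) : G) ^ i := by
    intro x hx
    have htop : Subgroup.zpowers c = ⊤ := Subgroup.eq_top_of_card_eq _ (by
      rw [Nat.card_zpowers, hc, hE.2])
    obtain ⟨i, hi⟩ := (isOfFinOrder_of_finite c).mem_powers_iff_mem_zpowers.2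
      (htop ▸ Subgroup.mem_top (⟨x, hx⟩ : Subgroup.center K))
    refine ⟨i, ?_⟩
    have := congrArg (fun w : Subgroup.center K => ((w : K) : G)) hi
    simpa using this.symm
  refine ⟨((c : K) : G), ⟨(c : K).2, hz, hcomm, ?_, h27, hexp, ?_, ?_⟩⟩
  · intro x hx hxy
    exact hmem ⟨x, hx⟩ (Subgroup.mem_center_iff.2 fun g => Subtype.ext (hxy g g.2).symm)
  · intro x hx y hy
    have h : ⁅(⟨x, hx⟩ : K), (⟨y, hy⟩ : K)⁆ ∈ Subgroup.center K := by
      rw [← hE.1.2.2]
      exact Subgroup.commutator_mem_commutator (Subgroup.mem_top _) (Subgroup.mem_top _)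
    obtain ⟨i, hi⟩ := hmem _ h
    refine ⟨i, ?_⟩
    rw [show x * y * x⁻¹ = x * y * x⁻¹ * y⁻¹ * y by group]
    have hi' : x * y * x⁻¹ * y⁻¹ = ((c : K) : G) ^ i := by
      rw [← hi, commutatorElement_def]; rfl
    rw [hi']
    exact ((show Commute ((c : K) : G) y from hcomm y hy).pow_left i).eq
  · intro g hg
    exact mul_inv_eq_iff_eq_mul.2 (hNC g hg _ (c : K).2 hcomm)

theorem blockRank_congr {K K' : Subgroup G} (h : K = K') :
    blockRank 3 (principalBlock M ↥K) = blockRank 3 (principalBlock M ↥K') := by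
  subst h; rfl

theorem height_iff {χ : IrrCharacter G} :
    blockHeight 3 (principalBlock M G) (χ : G → ℂ) = 0 ↔ ¬ 3 ∣ charDegree (χ : G → ℂ) := by
  have h0 : sInf ((fun ψ : IrrCharacter G => (charDegree (ψ : G → ℂ)).factorization 3) ''
      principalBlock M G) = 0 :=
    Nat.sInf_eq_zero.2 (Or.inl ⟨oneIrr G, oneIrr_mem_principalBlock, by simp [charDegree]⟩)
  rw [blockHeight, h0, Nat.sub_zero, Nat.factorization_eq_zero_iff]
  have := (irr_one χ).2
  constructor
  · rintro (h | h | h)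
    · exact absurd Nat.prime_three h
    · exact h
    · omega
  · exact fun h => Or.inr (Or.inl h)

namespace Setting

variable {z : G} (S : Setting P z)

include S in
theorem invariants (hM : IsPModular 3 M) (hE : Cfsg.IsExtraspecial 3 ↥(P : Subgroup G)) {e c : ℕ}
    (he : (inner P).relIndex (Subgroup.normalizer ((P : Subgroup G) : Set G)) = e)
    (h3 : ¬ 3 ∣ e) (h2 : 2 ∣ e) (hce : c * e = 8) (hc : c = 4 ∨ c = 2 ∨ c = 1) :
    Nat.card ↥(principalBlock M G) = 18 - 2 * c ∧
      Nat.card {χ : IrrCharacter G // χ ∈ principalBlock M G ∧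
        blockHeight 3 (principalBlock M G) (χ : G → ℂ) = 0} = 6 ∧
      blockRank 3 (principalBlock M G) = 6 - c := by
  haveI : Fact (Nat.Prime 3) := ⟨Nat.prime_three⟩
  obtain ⟨u, hu, hsep, hcov⟩ := S.exists_reps he h3 hce
  have hinv : ∀ r, IsConj (u r) (u r)⁻¹ := fun r => by
    obtain ⟨g, -, hg⟩ := S.isConj_inv he h3 h2 (hu r)
    exact isConj_iff.2 ⟨g, hg⟩
  let K : Classes G c :=
    { u := u
      ord := fun r => S.ord (hu r)
      inv := hinv
      sep := hsep
      hnpc := fun r => S.hnpc_centralizer (hu r)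
      exp := fun r => S.factorization_centralizer (hu r) }
  have hzu : ∀ r, ¬ IsConj z (u r) := fun r h => by
    obtain ⟨g, hg⟩ := isConj_iff.1 h
    have := S.weakly_closed (g := g) (hg ▸ (hu r).1)
    exact (hu r).2 1 (by rw [pow_one, ← hg, this])
  have hzzi : ¬ IsConj z z⁻¹ := fun h => by
    obtain ⟨g, hg⟩ := isConj_iff.1 h
    have := S.weakly_closed (g := g) (hg ▸ inv_mem S.z_mem)
    exact S.z_inv_ne (hg.symm.trans this)
  have hziu : ∀ r, ¬ IsConj z⁻¹ (u r) := fun r h => by
    obtain ⟨g, hg⟩ := isConj_iff.1 (h.trans (hinv r))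
    exact hzu r (isConj_iff.2 ⟨g, inv_injective (by rw [← hg]; group)⟩)
  have hall : ∀ g : G, (∃ k : ℕ, orderOf g = 3 ^ k) → g ≠ 1 →
      IsConj g z ∨ IsConj g z⁻¹ ∨ ∃ r, IsConj g (K.u r) := by
    rintro g ⟨k, hk⟩ hg1
    obtain ⟨T, hT⟩ := (IsPGroup.of_card (n := k) (by rw [Nat.card_zpowers, hk]) :
      IsPGroup 3 (Subgroup.zpowers g)).exists_le_sylow
    obtain ⟨x, hx⟩ := MulAction.exists_smul_eq G T P
    have hv : x * g * x⁻¹ ∈ P := by
      have h : x * g * x⁻¹ ∈ ((x • T : Sylow 3 G) : Subgroup G) := by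
        rw [Sylow.coe_subgroup_smul, CfsgLib.SZ.mem_conj_smul]
        simpa [mul_assoc] using hT (Subgroup.mem_zpowers g)
      rw [hx] at h; exact h
    have hc' : IsConj g (x * g * x⁻¹) := isConj_iff.2 ⟨x, rfl⟩
    by_cases hz : ∀ i : ℕ, x * g * x⁻¹ ≠ z ^ i
    · obtain ⟨r, hr⟩ := hcov _ ⟨hv, hz⟩
      exact Or.inr (Or.inr ⟨r, hc'.trans hr⟩)
    · push Not at hz
      obtain ⟨i, hi⟩ := hz
      rcases S.z_pow_cases i with h | h | h <;> rw [h] at hi
      · exact absurd (conj_eq_one_iff.1 hi) hg1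
      · exact Or.inl (hi ▸ hc')
      · exact Or.inr (Or.inl (hi ▸ hc'))
  letI : Fintype ↥(principalBlock M G) := Fintype.ofFinite _
  letI : Fintype (Subgroup.centralizer ({z} : Set G)) := Fintype.ofFinite _
  letI : Fintype ((Subgroup.centralizer ({z} : Set G)) ⧸ Zc z) := Fintype.ofFinite _
  letI : Fintype ↥(principalBlock M ((Subgroup.centralizer ({z} : Set G)) ⧸ Zc z)) :=
    Fintype.ofFinite _
  obtain ⟨KQ, hQall⟩ := S.quot_classes he h3 h2 u hu hsep hcov
  rcases exists_basis KQ hM hc S.factorization_quot hQall with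
    ⟨n, B, hn, ⟨F⟩⟩ | ⟨rfl, B, hB⟩
  swap
  · exfalso
    obtain ⟨L, -⟩ := S.exists_cols hM hE B K hzu hall
    rw [hB] at L
    exact no_nine L
  obtain ⟨L, hL⟩ := S.exists_cols hM hE B K hzu hall
  obtain ⟨hcard, hzero⟩ := L.counts F hn (by omega) (by omega)
  have hk : Nat.card ↥(principalBlock M G) = 6 + 2 * n := by rw [Nat.card_eq_fintype_card, hcard]
  refine ⟨by omega, ?_, ?_⟩
  · rw [← hzero, hL, ← Fintype.card_coe, ← Nat.card_eq_fintype_card]
    refine Nat.card_congr
      { toFun := fun χ => ⟨⟨χ.1, χ.2.1⟩, (K.vcols hM).mem_zero.2 ?_⟩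
        invFun := fun χ => ⟨χ.1.1, χ.1.2, ?_⟩
        left_inv := fun χ => rfl
        right_inv := fun χ => rfl }
    · show ¬ (3 : ℤ) ∣ (charDegree (χ.1 : G → ℂ) : ℤ)
      exact_mod_cast height_iff.1 χ.2.2
    · refine height_iff.2 ?_
      have h : ¬ (3 : ℤ) ∣ (charDegree (χ.1.1 : G → ℂ) : ℤ) := (K.vcols hM).mem_zero.1 χ.2
      exact_mod_cast h
  · -- the classes of singular elements
    set X : Finset G := insert 1 (insert z (insert z⁻¹ (univ.image u)))
    have hz1 := S.z_ne
    have hui : Function.Injective u := fun r r' h => by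
      by_contra hne; exact hsep r r' hne (h ▸ IsConj.refl _)
    have hu1 : ∀ r, u r ≠ 1 := fun r h => (hu r).2 0 (by rw [h, pow_zero])
    have huz : ∀ r, u r ≠ z := fun r h => hzu r (h ▸ IsConj.refl _)
    have huzi : ∀ r, u r ≠ z⁻¹ := fun r h => hziu r (h ▸ IsConj.refl _)
    have hn1 : (1 : G) ∉ insert z (insert z⁻¹ (univ.image u)) := by
      simp [hz1, hz1.symm, hu1]
    have hn2 : z ∉ insert z⁻¹ (univ.image u) := by
      simp [S.z_inv_ne.symm, huz]
    have hn3 : z⁻¹ ∉ univ.image u := by simp [huzi]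
    have hsum := card_principal_eq hM X (fun x hx => ?_) (fun g hg => ?_)
    · rw [sum_insert hn1, sum_insert hn2, sum_insert hn3, sum_image hui.injOn,
        blockRank_principal_centralizer_one hM,
        sum_congr rfl fun r _ => blockRank_one_of_hnpc hM (S.hnpc_centralizer (hu r)),
        blockRank_congr (M := M) (K := Subgroup.centralizer ({z⁻¹} : Set G))
          (K' := Subgroup.centralizer ({z} : Set G)) ?_,
        blockRank_principal_quotient hM S.isPGroup_Zc (sup_centralizer_eq_top (Zc_le_center z)),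
        B.rank, hk, sum_const, card_univ, Fintype.card_fin, smul_eq_mul, mul_one] at hsum
      · omega
      · ext x
        simp only [Subgroup.mem_centralizer_singleton_iff]
        exact ⟨fun h => (by simpa using (show Commute x z⁻¹ from h).inv_right : Commute x z).eq,
          fun h => (show Commute x z from h).inv_right⟩
    · simp only [X, mem_insert, Finset.mem_image, Finset.mem_univ, true_and] at hx
      rcases hx with rfl | rfl | rfl | ⟨r, rfl⟩
      · exact ⟨0, by simp⟩
      · exact ⟨1, by rw [S.z_ord, pow_one]⟩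
      · exact ⟨1, by rw [orderOf_inv, S.z_ord, pow_one]⟩
      · exact ⟨1, by rw [S.ord (hu r), pow_one]⟩
    · have hone : ∀ x, IsConj (1 : G) x → x = 1 := fun x h => isConj_one_right.1 h
      have key : ∀ x y, x ∈ X → y ∈ X → IsConj x y → x = y := by
        intro x y hx hy hxy
        simp only [X, mem_insert, Finset.mem_image, Finset.mem_univ, true_and] at hx hy
        rcases hx with rfl | rfl | rfl | ⟨r, rfl⟩ <;>
          rcases hy with rfl | rfl | rfl | ⟨r', rfl⟩ <;>
          first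
            | rfl
            | exact (hone _ hxy).symm
            | exact hone _ hxy.symm
            | exact absurd hxy hzzi
            | exact absurd hxy.symm hzzi
            | exact absurd hxy (hzu _)
            | exact absurd hxy.symm (hzu _)
            | exact absurd hxy (hziu _)
            | exact absurd hxy.symm (hziu _)
            | (by_contra hne; exact hsep r r' (fun h => hne (by rw [h])) hxy)
      obtain ⟨x, hx, hgx⟩ : ∃ x ∈ X, IsConj g x := by
        by_cases h1 : g = 1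
        · exact ⟨1, mem_insert_self _ _, h1 ▸ IsConj.refl _⟩
        rcases hall g hg h1 with h | h | ⟨r, h⟩
        · exact ⟨z, by simp [X], h⟩
        · exact ⟨z⁻¹, by simp [X], h⟩
        · exact ⟨u r, by simp [X], h⟩
      exact ⟨x, ⟨hx, hgx⟩, fun y hy => key y x hy.1 hx (hy.2.symm.trans hgx)⟩

include S in
theorem invariants_one (hM : IsPModular 3 M) (hE : Cfsg.IsExtraspecial 3 ↥(P : Subgroup G))
    (he : (inner P).relIndex (Subgroup.normalizer ((P : Subgroup G) : Set G)) = 1) :
    Nat.card ↥(principalBlock M G) = 11 ∧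
      Nat.card {χ : IrrCharacter G // χ ∈ principalBlock M G ∧
        blockHeight 3 (principalBlock M G) (χ : G → ℂ) = 0} = 9 ∧
      blockRank 3 (principalBlock M G) = 1 := by
  haveI : Fact (Nat.Prime 3) := ⟨Nat.prime_three⟩
  have hG := S.hnpc_of_one he
  obtain ⟨N, hNn, hN, hidx⟩ := exists_complement_data hG
  rw [S.factorization_G] at hidx
  haveI := hNn
  have hblock := principalBlock_of_complement hM N hN ⟨3, hidx⟩
  let f : ↥(P : Subgroup G) →* G ⧸ N := (QuotientGroup.mk' N).comp (P : Subgroup G).subtype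
  have hinj : Function.Injective f := by
    rw [injective_iff_map_eq_one]
    intro x hx
    have hxN : (x : G) ∈ N := (QuotientGroup.eq_one_iff _).1 hx
    have h1 : orderOf (x : G) ∣ Nat.card N := N.orderOf_dvd_natCard hxN
    have h2 : orderOf (x : G) ∣ 3 := orderOf_dvd_of_pow_eq_one (S.exp _ x.2)
    rcases (Nat.dvd_prime Nat.prime_three).1 h2 with h | h
    · exact Subtype.ext (orderOf_eq_one_iff.1 h)
    · exact absurd (h ▸ h1) hN
  have hbij : Function.Bijective f :=
    (Nat.bijective_iff_injective_and_card f).2 ⟨hinj, by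
      rw [← Subgroup.index_eq_card, hidx, S.card]; norm_num⟩
  let eP : ↥(P : Subgroup G) ≃* G ⧸ N := MulEquiv.ofBijective f hbij
  have hres : ∀ χ : ↥(principalBlock M G), ∃ σ : IrrCharacter (G ⧸ N),
      (χ.1 : G → ℂ) = fun g : G => (σ : G ⧸ N → ℂ) (g : G ⧸ N) := by
    intro χ
    have hχ := χ.2
    rw [Set.ext_iff.1 hblock] at hχ
    obtain ⟨σ, hσ, hσe⟩ := CfsgLib.Char.TwoClass.exists_deflate χ.1.2 hχ
    exact ⟨⟨σ, hσ⟩, hσe⟩
  choose σ hσ using hres
  let T : ↥(principalBlock M G) → IrrCharacter ↥(P : Subgroup G) := fun χ =>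
    ⟨fun x => (σ χ : G ⧸ N → ℂ) (eP x),
      IsIrrCharacter.comp_surjective (σ χ).2 eP.toMonoidHom eP.surjective⟩
  let U : IrrCharacter ↥(P : Subgroup G) → IrrCharacter G := fun ψ =>
    ⟨fun g => (ψ : ↥(P : Subgroup G) → ℂ) (eP.symm (g : G ⧸ N)),
      IsIrrCharacter.comp_surjective ψ.2 (eP.symm.toMonoidHom.comp (QuotientGroup.mk' N))
        (eP.symm.surjective.comp (QuotientGroup.mk'_surjective N))⟩
  have hU : ∀ ψ, U ψ ∈ principalBlock M G := fun ψ => by
    rw [Set.ext_iff.1 hblock]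
    intro n hn
    show (ψ : ↥(P : Subgroup G) → ℂ) (eP.symm (n : G ⧸ N)) = (ψ : ↥(P : Subgroup G) → ℂ) (eP.symm ((1 : G) : G ⧸ N))
    rw [(QuotientGroup.eq_one_iff n).2 hn, QuotientGroup.mk_one]
  let E : ↥(principalBlock M G) ≃ IrrCharacter ↥(P : Subgroup G) :=
    { toFun := T
      invFun := fun ψ => ⟨U ψ, hU ψ⟩
      left_inv := fun χ => Subtype.ext (Subtype.ext (funext fun g => by
        show (σ χ : G ⧸ N → ℂ) (eP (eP.symm (g : G ⧸ N))) = _
        rw [MulEquiv.apply_symm_apply, hσ χ]))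
      right_inv := fun ψ => Subtype.ext (funext fun x => by
        show (σ ⟨U ψ, hU ψ⟩ : G ⧸ N → ℂ) ((x : G) : G ⧸ N) = _
        rw [← congrFun (hσ ⟨U ψ, hU ψ⟩) (x : G)]
        show (ψ : ↥(P : Subgroup G) → ℂ) (eP.symm (eP x)) = _
        rw [MulEquiv.symm_apply_apply]) }
  have hdeg : ∀ χ : ↥(principalBlock M G), (E χ : ↥(P : Subgroup G) → ℂ) 1 = (charDegree (χ.1 : G → ℂ) : ℂ) := by
    intro χ
    show (σ χ : G ⧸ N → ℂ) (eP 1) = _
    rw [← (irr_one χ.1).1, hσ χ, map_one]
    rfl
  have h894 := Cfsg.Agent.S0894.result (P := ↥(P : Subgroup G)) 3 1 hE (by rw [S.card]; norm_num)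
  have hlin : Nat.card {ψ : IrrCharacter ↥(P : Subgroup G) // (ψ : ↥(P : Subgroup G) → ℂ) 1 = 1} = 9 := by
    rw [card_linear]
    have h1 := (commutator ↥(P : Subgroup G)).card_mul_index
    rw [S.card, hE.1.2.2, hE.2, ← hE.1.2.2] at h1
    omega
  refine ⟨?_, ?_, blockRank_one_of_hnpc hM hG⟩
  · rw [Nat.card_congr E, ← Nat.card_congr (Equiv.sumCompl fun ψ : IrrCharacter ↥(P : Subgroup G) =>
        (ψ : ↥(P : Subgroup G) → ℂ) 1 = 1), Nat.card_sum, hlin,
      Nat.card_congr (Equiv.subtypeEquivRight (q := fun ψ : IrrCharacter ↥(P : Subgroup G) =>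
        (ψ : ↥(P : Subgroup G) → ℂ) 1 = (3 : ℂ) ^ 1) fun ψ => ⟨(h894.1 ψ).resolve_left, fun h h' => by
          rw [h] at h'; norm_num at h'⟩)]
    have := h894.2
    push_cast at this
    rw [this]
  · rw [← hlin]
    refine Nat.card_congr ((Equiv.subtypeSubtypeEquivSubtypeInter
      (· ∈ principalBlock M G) fun χ => blockHeight 3 (principalBlock M G) (χ : G → ℂ) = 0).symm.trans
      (E.subtypeEquiv fun χ => ?_))
    rw [height_iff, hdeg]
    constructor
    · intro h
      rcases h894.1 (E χ) with h' | h' <;> rw [hdeg] at h'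
      · exact h'
      · exact absurd (show charDegree (χ.1 : G → ℂ) = 3 by exact_mod_cast (by simpa using h' :
          (charDegree (χ.1 : G → ℂ) : ℂ) = 3)) fun e => h (dvd_of_eq e.symm)
    · intro h
      rw [show charDegree (χ.1 : G → ℂ) = 1 by exact_mod_cast h]
      norm_num

end Setting

end CfsgLib.ExtraThree
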