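import Cfsg.Agent.ExtraThree.Coeff
import Cfsg.Agent.ExtraThree.Inertia

/-!
# The quotient of the centralizer of the centre
-/

set_option autoImplicit false
set_option linter.unusedSectionVars false
set_option linter.style.haveILetI false

namespace CfsgLib.ExtraThree

open Subgroup
open scoped Classical

universe w

variable {G : Type w} [Group G] [Fintype G] {P : Sylow 3 G} {z : G}

/-- The element `z` in its centralizer. -/
def zC (z : G) : centralizer ({z} : Set G) := ⟨z, mem_centralizer_singleton_iff.2 rfl⟩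

/-- The group generated by `z` in its centralizer. -/
abbrev Zc (z : G) : Subgroup (centralizer ({z} : Set G)) := zpowers (zC z)

theorem Zc_le_center (z : G) : Zc z ≤ center (centralizer ({z} : Set G)) :=
  zpowers_le.2 (mem_center_iff.2 fun g => Subtype.ext (mem_centralizer_singleton_iff.1 g.2))

instance Zc_normal (z : G) : (Zc z).Normal :=
  ⟨fun a ha g => by
    rw [mem_center_iff.1 (Zc_le_center z ha) g, mul_inv_cancel_right]; exact ha⟩

/-- The map on the stabilizer of `u Z`. -/
def nearMap (z u : G) (hzu : z * u = u * z) :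
    nearStab z u hzu →* (centralizer ({z} : Set G)) ⧸ Zc z :=
  (QuotientGroup.mk' (Zc z)).comp (MonoidHom.mk'
    (fun g : nearStab z u hzu => (⟨(g : G), mem_centralizer_singleton_iff.2 g.2.1⟩ :
      centralizer ({z} : Set G))) fun _ _ => rfl)

namespace Setting

variable (S : Setting P z)

include S in
theorem card_Zc : Nat.card (Zc z) = 3 := by
  rw [Nat.card_zpowers, zC, orderOf_mk, S.z_ord]

include S in
theorem isPGroup_Zc : IsPGroup 3 (Zc z) :=
  IsPGroup.of_card (n := 1) (by rw [S.card_Zc, pow_one])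

include S in
theorem factorization_G : (Nat.card G).factorization 3 = 3 := by
  haveI : Fact (Nat.Prime 3) := ⟨Nat.prime_three⟩
  have h := P.card_eq_multiplicity
  rw [S.card, show 27 = 3 ^ 3 from rfl] at h
  exact (Nat.pow_right_injective (le_refl 2 |>.trans (by norm_num)) h).symm

include S in
theorem le_cent : (P : Subgroup G) ≤ centralizer ({z} : Set G) := fun x hx =>
  mem_centralizer_singleton_iff.2 (S.z_comm x hx).symm

include S in
theorem factorization_of_le {K : Subgroup G} (hK : (P : Subgroup G) ≤ K) :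
    (Nat.card K).factorization 3 = 3 := by
  refine le_antisymm
    (((Nat.factorization_le_iff_dvd Nat.card_pos.ne' Nat.card_pos.ne').2 K.card_subgroup_dvd_card 3).trans
      S.factorization_G.le) ?_
  refine (Nat.prime_three.pow_dvd_iff_le_factorization Nat.card_pos.ne').1 ?_
  rw [show 3 ^ 3 = 27 from rfl, ← S.card]
  exact card_dvd_of_le hK

include S in
theorem factorization_quot :
    (Nat.card ((centralizer ({z} : Set G)) ⧸ Zc z)).factorization 3 = 2 := by
  have h := S.factorization_of_le S.le_cent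
  rw [(Zc z).card_eq_card_quotient_mul_card_subgroup, S.card_Zc,
    Nat.factorization_mul Nat.card_pos.ne' (by norm_num), Finsupp.add_apply,
    Nat.Prime.factorization_self Nat.prime_three] at h
  omega

include S in
theorem mem_Zc_iff {g : centralizer ({z} : Set G)} : g ∈ Zc z ↔ ∃ i : ℕ, (g : G) = z ^ i := by
  constructor
  · intro h
    obtain ⟨i, hi⟩ := (isOfFinOrder_of_finite (zC z)).mem_powers_iff_mem_zpowers.2 h
    exact ⟨i, (congrArg Subtype.val hi).symm.trans (by simp [zC])⟩
  · rintro ⟨i, hi⟩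
    have : g = zC z ^ i := Subtype.ext (hi.trans (by simp [zC]))
    exact this ▸ pow_mem (mem_zpowers _) i

include S in
theorem nearMap_range {u : G} (hu : u ∈ NC P z) :
    (nearMap z u (S.z_comm u hu.1)).range = centralizer
      ({((⟨u, S.le_cent hu.1⟩ : centralizer ({z} : Set G)) : centralizer ({z} : Set G) ⧸ Zc z)} :
        Set _) := by
  ext q
  obtain ⟨g, rfl⟩ := QuotientGroup.mk_surjective q
  rw [mem_centralizer_singleton_iff, ← QuotientGroup.mk_mul, ← QuotientGroup.mk_mul, QuotientGroup.eq,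
    S.mem_Zc_iff]
  have hz : ∀ i : ℕ, Commute (g : G) (z ^ i) := fun i =>
    (show Commute (g : G) z from mem_centralizer_singleton_iff.1 g.2).pow_right i
  constructor
  · rintro ⟨k, hk⟩
    obtain ⟨i, hi⟩ : ∃ i : ℕ, ((⟨(k : G), mem_centralizer_singleton_iff.2 k.2.1⟩ :
        centralizer ({z} : Set G))⁻¹ * g : centralizer ({z} : Set G)).1 = z ^ i :=
      S.mem_Zc_iff.1 (QuotientGroup.eq.1 hk)
    obtain ⟨j, hj⟩ := k.2.2
    have hg : (g : G) = (k : G) * z ^ i := by rw [← hi]; push_cast; group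
    have hu' : (g : G) * u * (g : G)⁻¹ = u * z ^ j := by
      rw [hg]
      calc (k : G) * z ^ i * u * ((k : G) * z ^ i)⁻¹ = (k : G) * (z ^ i * u * (z ^ i)⁻¹) * (k : G)⁻¹ := by
            group
        _ = _ := by
          rw [((show Commute z u from S.z_comm u hu.1).pow_left i).eq, mul_inv_cancel_right, hj]
    refine ⟨2 * j, ?_⟩
    push_cast
    have e : (g : G) * u = u * z ^ j * g := by rw [← hu', inv_mul_cancel_right]
    rw [e, mul_assoc u, ← (hz j).eq]
    calc (u * ((g : G) * z ^ j))⁻¹ * (u * g) = (z ^ j)⁻¹ := by group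
      _ = z ^ (2 * j) := inv_eq_of_mul_eq_one_left (by
        rw [← pow_add, show 2 * j + j = 3 * j by ring, pow_mul, S.z3, one_pow])
  · rintro ⟨i, hi⟩
    push_cast at hi
    refine ⟨⟨g, mem_centralizer_singleton_iff.1 g.2, 2 * i, ?_⟩, rfl⟩
    have e : u * g = (g : G) * u * z ^ i := by rw [← hi]; group
    have hzi : z ^ i * z ^ (2 * i) = 1 := by
      rw [← pow_add, show i + 2 * i = 3 * i by ring, pow_mul, S.z3, one_pow]
    calc (g : G) * u * (g : G)⁻¹ = (g : G) * u * (z ^ i * z ^ (2 * i)) * (g : G)⁻¹ := by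
          rw [hzi, mul_one]
      _ = u * ((g : G) * z ^ (2 * i) * (g : G)⁻¹) := by rw [← mul_assoc _ (z ^ i), ← e]; group
      _ = u * z ^ (2 * i) := by rw [(hz _).eq, mul_inv_cancel_right]

include S in
theorem hnpc_nearStab {u : G} (hu : u ∈ NC P z) :
    Cfsg.HasNormalPComplement 3 ↥(nearStab z u (S.z_comm u hu.1)) := by
  haveI : Fact (Nat.Prime 3) := ⟨Nat.prime_three⟩
  have hc := CfsgLib.PResidual.hasNormalPComplement_iff.1 (S.hnpc_centralizer hu)
  refine CfsgLib.PResidual.hasNormalPComplement_iff.2 (hc.coprime_dvd_left ?_)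
  rw [← card_map_of_injective (K := Cfsg.pResidual 3 ↥(nearStab z u (S.z_comm u hu.1)))
      (nearStab z u (S.z_comm u hu.1)).subtype_injective,
    ← card_map_of_injective (K := Cfsg.pResidual 3 ↥(centralizer ({u} : Set G)))
      (centralizer ({u} : Set G)).subtype_injective]
  refine card_dvd_of_le ?_
  rw [Cfsg.pResidual, MonoidHom.map_closure, closure_le]
  rintro _ ⟨x, hx, rfl⟩
  obtain ⟨hxz, i, hxi⟩ := x.2
  have hiter : ∀ m : ℕ, (x : G) ^ m * u * ((x : G) ^ m)⁻¹ = u * z ^ (m * i) := fun m => by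
    induction m with
    | zero => simp
    | succ m ih =>
      calc (x : G) ^ (m + 1) * u * ((x : G) ^ (m + 1))⁻¹ =
            (x : G) * ((x : G) ^ m * u * ((x : G) ^ m)⁻¹) * (x : G)⁻¹ := by rw [pow_succ']; group
        _ = ((x : G) * u * (x : G)⁻¹) * ((x : G) * z ^ (m * i) * (x : G)⁻¹) := by rw [ih]; group
        _ = u * z ^ ((m + 1) * i) := by
          rw [hxi, ((show Commute (x : G) z from hxz).pow_right _).eq, mul_inv_cancel_right,
            mul_assoc, ← pow_add]
          congr 2; ring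
  have h := hiter (orderOf x)
  rw [← orderOf_coe, pow_orderOf_eq_one, one_mul, inv_one, mul_one] at h
  have h3 : 3 ∣ orderOf x * i := by
    rw [← S.z_pow_eq, ← orderOf_coe]
    exact (left_eq_mul.1 h)
  have hi : z ^ i = 1 := S.z_pow_eq.2 ((Nat.Coprime.dvd_mul_left
    (Nat.coprime_comm.1 (show (orderOf x).Coprime 3 from hx))).1 h3)
  have hxu : (x : G) ∈ centralizer ({u} : Set G) := by
    rw [mem_centralizer_singleton_iff]
    rw [hi, mul_one, mul_inv_eq_iff_eq_mul] at hxi
    exact hxi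
  exact ⟨⟨(x : G), hxu⟩, CfsgLib.PResidual.mem_pResidual 3 (by
    rw [orderOf_mk, orderOf_coe]; exact hx), rfl⟩

include S in
theorem hnpc_quot {u : G} (hu : u ∈ NC P z) :
    Cfsg.HasNormalPComplement 3 ↥(centralizer
      ({((⟨u, S.le_cent hu.1⟩ : centralizer ({z} : Set G)) : centralizer ({z} : Set G) ⧸ Zc z)} :
        Set _)) := by
  haveI : Fact (Nat.Prime 3) := ⟨Nat.prime_three⟩
  rw [← S.nearMap_range hu]
  set f := (nearMap z u (S.z_comm u hu.1)).rangeRestrict with hf
  have hfs : Function.Surjective f := MonoidHom.rangeRestrict_surjective _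
  have hc := CfsgLib.PResidual.hasNormalPComplement_iff.1 (S.hnpc_nearStab hu)
  refine CfsgLib.PResidual.hasNormalPComplement_iff.2 (hc.coprime_dvd_left ?_)
  refine dvd_trans (card_dvd_of_le ?_)
    (Subgroup.card_map_dvd (Cfsg.pResidual 3 ↥(nearStab z u (S.z_comm u hu.1))) f)
  haveI : ((Cfsg.pResidual 3 ↥(nearStab z u (S.z_comm u hu.1))).map f).Normal :=
    Subgroup.Normal.map inferInstance _ hfs
  obtain ⟨k, hk⟩ := CfsgLib.PResidual.exists_index_pResidual
    (G := ↥(nearStab z u (S.z_comm u hu.1))) (p := 3)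
  obtain ⟨j, -, hj⟩ := (Nat.dvd_prime_pow Nat.prime_three).1
    (hk ▸ (Cfsg.pResidual 3 ↥(nearStab z u (S.z_comm u hu.1))).index_map_dvd hfs)
  exact CfsgLib.PResidual.pResidual_le hj

include S in
theorem exp_quot {u : G} (hu : u ∈ NC P z) :
    (Nat.card ↥(centralizer
      ({((⟨u, S.le_cent hu.1⟩ : centralizer ({z} : Set G)) : centralizer ({z} : Set G) ⧸ Zc z)} :
        Set _))).factorization 3 = 2 := by
  rw [← S.nearMap_range hu]
  set f := nearMap z u (S.z_comm u hu.1)
  have hker : Nat.card f.ker = 3 := by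
    refine (Nat.card_congr (α := f.ker) (β := zpowers z)
      { toFun := fun x => ⟨(x.1 : G), ?_⟩
        invFun := fun x => ⟨⟨x.1, ?_⟩, ?_⟩
        left_inv := fun x => rfl
        right_inv := fun x => rfl }).trans S.card_zpowers_z
    · have := (QuotientGroup.eq_one_iff (N := Zc z) _).1 (MonoidHom.mem_ker.1 x.2)
      obtain ⟨i, hi⟩ := S.mem_Zc_iff.1 this
      exact hi ▸ pow_mem (mem_zpowers z) i
    · exact S.le_nearStab hu.1 (zpowers_le.2 S.z_mem x.2)
    · rw [MonoidHom.mem_ker]
      refine (QuotientGroup.eq_one_iff _).2 (S.mem_Zc_iff.2 ?_)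
      obtain ⟨i, hi⟩ := (isOfFinOrder_of_finite z).mem_powers_iff_mem_zpowers.2 x.2
      exact ⟨i, hi.symm⟩
  have h := S.factorization_of_le (S.le_nearStab hu.1)
  rw [f.ker.card_eq_card_quotient_mul_card_subgroup, hker,
    Nat.card_congr (QuotientGroup.quotientKerEquivRange f).toEquiv,
    Nat.factorization_mul Nat.card_pos.ne' (by norm_num), Finsupp.add_apply,
    Nat.Prime.factorization_self Nat.prime_three] at h
  omega

variable {e : ℕ}

include S in
/-- The classes of the quotient. -/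
theorem quot_classes (he : (inner P).relIndex (normalizer ((P : Subgroup G) : Set G)) = e)
    (h3 : ¬ 3 ∣ e) (h2 : 2 ∣ e) {c : ℕ} (u : Fin c → G) (hu : ∀ r, u r ∈ NC P z)
    (hsep : ∀ r r', r ≠ r' → ¬ IsConj (u r) (u r'))
    (hcov : ∀ v ∈ NC P z, ∃ r, IsConj v (u r)) :
    ∃ K : Classes ((centralizer ({z} : Set G)) ⧸ Zc z) c,
      ∀ g : (centralizer ({z} : Set G)) ⧸ Zc z, (∃ k : ℕ, orderOf g = 3 ^ k) → g ≠ 1 →
        ∃ r, IsConj g (K.u r) := by
  haveI : Fact (Nat.Prime 3) := ⟨Nat.prime_three⟩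
  have hNC : ∀ {n : G}, n ∈ normalizer ((P : Subgroup G) : Set G) → n ∈ centralizer ({z} : Set G) :=
    fun hn => mem_centralizer_singleton_iff.2 (mul_inv_eq_iff_eq_mul.1 (S.fix _ hn))
  refine ⟨{ u := fun r => ((⟨u r, S.le_cent (hu r).1⟩ : centralizer ({z} : Set G)) : _ ⧸ Zc z)
            ord := fun r => ?_
            inv := fun r => ?_
            sep := fun r r' hne hc => ?_
            hnpc := fun r => S.hnpc_quot (hu r)
            exp := fun r => S.exp_quot (hu r) }, fun g hg hg1 => ?_⟩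
  · refine orderOf_eq_prime ?_ fun h => ?_
    · rw [← QuotientGroup.mk_pow, QuotientGroup.eq_one_iff]
      convert one_mem (Zc z)
      exact Subtype.ext (by simpa using S.exp _ (hu r).1)
    · obtain ⟨i, hi⟩ := S.mem_Zc_iff.1 ((QuotientGroup.eq_one_iff _).1 h)
      exact (hu r).2 i hi
  · obtain ⟨n, hn, hnu⟩ := S.isConj_inv he h3 h2 (hu r)
    rw [← QuotientGroup.mk_inv]
    exact (QuotientGroup.mk' (Zc z)).map_isConj (isConj_iff.2 ⟨⟨n, hNC hn⟩, Subtype.ext hnu⟩)
  · obtain ⟨q, hq⟩ := isConj_iff.1 hc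
    obtain ⟨g, rfl⟩ := QuotientGroup.mk_surjective q
    rw [← QuotientGroup.mk_inv, ← QuotientGroup.mk_mul, ← QuotientGroup.mk_mul,
      QuotientGroup.eq] at hq
    obtain ⟨i, hi⟩ := S.mem_Zc_iff.1 hq
    push_cast at hi
    obtain ⟨w, hw, hwu⟩ := S.move_pow (hu r') (2 * i)
    refine hsep r r' hne (IsConj.trans (c := u r') (isConj_iff.2 ⟨(g : G), rfl⟩) ?_)
    refine (isConj_iff.2 ⟨w, hwu.trans ?_⟩).symm
    have hg : u r' = (g : G) * u r * (g : G)⁻¹ * z ^ i := by rw [← hi]; group
    conv_lhs => rw [hg]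
    rw [mul_assoc, ← pow_add, show i + 2 * i = 3 * i by ring, pow_mul, S.z3, one_pow, mul_one]
  · obtain ⟨y, rfl⟩ := QuotientGroup.mk_surjective g
    obtain ⟨k, hk⟩ := hg
    obtain ⟨a, b, hab, -, -, -, -, hb, ⟨l, hl⟩, -, hbz⟩ :=
      CfsgLib.Block.exists_pPart Nat.prime_three y
    have hb1 : ((b : centralizer ({z} : Set G) ⧸ Zc z)) = 1 := by
      rw [← orderOf_eq_one_iff]
      refine Nat.eq_one_of_dvd_coprimes
        ((Nat.prime_three.coprime_iff_not_dvd.2 hb).pow_left k) (hk ▸ ?_)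
        (orderOf_map_dvd (QuotientGroup.mk' (Zc z)) b)
      obtain ⟨i, rfl⟩ := hbz
      rw [QuotientGroup.mk_zpow]
      exact orderOf_dvd_of_mem_zpowers (zpow_mem (mem_zpowers _) i)
    have hya : ((y : centralizer ({z} : Set G) ⧸ Zc z)) = (a : centralizer ({z} : Set G) ⧸ Zc z) := by
      rw [← hab, QuotientGroup.mk_mul, hb1, mul_one]
    have hap : IsPGroup 3 (zpowers a) := IsPGroup.of_card (n := l) (by rw [Nat.card_zpowers, hl])
    obtain ⟨T, hT⟩ := hap.exists_le_sylow
    obtain ⟨c', hc'⟩ := MulAction.exists_smul_eq (centralizer ({z} : Set G)) T (P.subtype S.le_cent)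
    have haP : (c' : G) * a * (c' : G)⁻¹ ∈ P := by
      have h : c' * a * c'⁻¹ ∈ ((c' • T : Sylow 3 _) : Subgroup (centralizer ({z} : Set G))) := by
        rw [Sylow.coe_subgroup_smul, CfsgLib.SZ.mem_conj_smul]
        simpa [mul_assoc] using hT (mem_zpowers a)
      rw [hc', Sylow.coe_subtype, mem_subgroupOf] at h
      exact h
    have hnz : (c' : G) * a * (c' : G)⁻¹ ∈ NC P z := ⟨haP, fun i hi => hg1 (by
      rw [hya, QuotientGroup.eq_one_iff, S.mem_Zc_iff]
      refine ⟨i, ?_⟩
      calc (a : G) = (c' : G)⁻¹ * z ^ i * c' := by rw [← hi]; group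
        _ = z ^ i := by
          rw [mul_assoc, ← ((show Commute (c' : G) z from mem_centralizer_singleton_iff.1 c'.2).pow_right
            i).eq, inv_mul_cancel_left])⟩
    obtain ⟨r, hr⟩ := hcov _ hnz
    obtain ⟨g', hg'⟩ := isConj_iff.1 hr
    obtain ⟨n, hn, hne⟩ := S.fusion hnz (hu r) hg'
    refine ⟨r, ?_⟩
    rw [hya]
    exact (QuotientGroup.mk' (Zc z)).map_isConj (isConj_iff.2 ⟨⟨n, hNC hn⟩ * c', Subtype.ext (by
      push_cast
      rw [← hne]
      group)⟩)

end Setting

end CfsgLib.ExtraThree
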